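import Cfsg.Agent.H96.U4.Main
import Cfsg.Agent.S5785

/-!
# S3691, box O6m (helper96)

`boxO6m` : subgroups of `O₆⁻(2 ^ f)` with `r₄` or `r₆` (with box Sp4 as hypothesis)
-/

set_option autoImplicit false

namespace Cfsg.Agent.H96.U4

open Cfsg Cfsg.Geo
open Cfsg.Agent.H659.Rs (BoxSp4 BoxO6m)

theorem res_none {K : Type} [Field K] [Fintype K] {f : ℕ} (hf : 4 ≤ f) (hK : Fintype.card K = (2 ^ f) ^ 2) :
    ResNone K (2 ^ f) := by
  intro H hH hS
  obtain ⟨-, -, hp, -⟩ := Cfsg.Agent.S5785.result (2 ^ f) hK H hH hS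
  exact Nat.Prime.not_prime_pow (by omega) hp

/-- **box O6m** -/
theorem boxO6m (h4 : BoxSp4) : BoxO6m := boxO6m_of_res h4 res_none

end Cfsg.Agent.H96.U4
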