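import Cfsg.Agent.H96.U4.Iso

/-!
# S3691, box O6m, up to S5785 (helper96)

`boxO6m_of` : the box for `f`, with the content of S5785 for `q = 2 ^ f` as hypothesis
-/

set_option autoImplicit false
set_option linter.unusedSectionVars false

namespace Cfsg.Agent.H96.U4

open Cfsg Cfsg.Geo Module QuadraticMap Cfsg.Agent.H955 Cfsg.Agent.LieClassical.OrthCore
open Cfsg.Agent.H918 (SUg)
open Cfsg.Agent.H884.OmegaGL (bundle nondeg_bundle)
open Cfsg.Agent.H659.Rs (Pm v2 BoxSp4 BoxO6m)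
open scoped Matrix MatrixGroups

section main

variable {F : Type} [Field F] [Fintype F] {f : ℕ}

theorem index_omega (hf : 1 ≤ f) (hF : Fintype.card F = 2 ^ f) {Q : (Fin 3 ⊕ Fin 3 → F) → F}
    (hQ : IsNondegenerateQuadraticForm Q) : (commutator (Cfsg.isometryGroup F Q)).index = 2 := by
  have h2 : (2 : F) = 0 := by
    have hF0 : ((Fintype.card F : ℕ) : F) = 0 := FiniteField.cast_card_eq_zero F
    rw [hF, Nat.cast_pow] at hF0
    exact_mod_cast (pow_eq_zero_iff (by omega)).1 hF0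
  exact ClassicalGeometry.OrthDickson.index_commutator_two (bundle Q hQ) h2 (polar_nondeg (nondeg_bundle Q hQ))
    (Or.inr (by decide))

theorem inv_mul_mem_omega (hf : 1 ≤ f) (hF : Fintype.card F = 2 ^ f) {Q : (Fin 3 ⊕ Fin 3 → F) → F}
    (hQ : IsNondegenerateQuadraticForm Q) {x y : GL (Fin 3 ⊕ Fin 3) F} (hx : x ∈ Cfsg.isometryGroup F Q)
    (hy : y ∈ Cfsg.isometryGroup F Q) (hx0 : x ∉ omegaGL Q) (hy0 : y ∉ omegaGL Q) : x⁻¹ * y ∈ omegaGL Q := by
  have hidx := index_omega hf hF hQ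
  have key : ∀ z : Cfsg.isometryGroup F Q, (z : GL (Fin 3 ⊕ Fin 3) F) ∈ omegaGL Q ↔
      z ∈ commutator (Cfsg.isometryGroup F Q) := by
    intro z
    constructor
    · rintro ⟨w, hw, hwz⟩
      have : w = z := Subtype.ext hwz
      rwa [← this]
    · intro hz
      exact ⟨z, hz, rfl⟩
  have h1 := Subgroup.mul_mem_iff_of_index_two hidx (a := (⟨x, hx⟩ : Cfsg.isometryGroup F Q)⁻¹)
    (b := (⟨y, hy⟩ : Cfsg.isometryGroup F Q))
  rw [← key, ← key, ← key] at h1
  apply h1.2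
  constructor
  · intro h2
    exfalso
    apply hx0
    have h3 := (omegaGL Q).inv_mem h2
    simpa using h3
  · intro h2
    exact absurd h2 hy0

/-- the subgroup of `SU_4(q)` -/
theorem exists_sub (hf : 1 ≤ f) (hF : Fintype.card F = 2 ^ f) {K : Type} [Field K] [Fintype K]
    (hK : Fintype.card K = (2 ^ f) ^ 2) {Q : (Fin 3 ⊕ Fin 3 → F) → F}
    (hQ : IsNondegenerateQuadraticForm Q) (hm : ¬ IsPlusTypeOn Q ⊤) {R : Subgroup (GL (Fin 3 ⊕ Fin 3) F)}
    (hR : R ≤ Cfsg.isometryGroup F Q) : ∃ X : Subgroup (GL (Fin 4) K), X ≤ SUg 4 K (2 ^ f) ∧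
      (X = SUg 4 K (2 ^ f) → omegaGL Q ≤ R) ∧ Nat.card X ∣ Nat.card R ∧ Nat.card R ∣ 2 * Nat.card X := by
  classical
  have hfin1 : Finite (GL (Fin 3 ⊕ Fin 3) F) := inferInstance
  have hfin2 : Finite (GL (Fin 4) K) := inferInstance
  obtain ⟨E⟩ := omega_equiv hf hF hK hQ hm
  set Y := R.subgroupOf (omegaGL Q) with hY
  set X := (Y.map E.toMonoidHom).map (SUg 4 K (2 ^ f)).subtype with hX
  have hXY : Nat.card X = Nat.card Y := by
    rw [hX, Subgroup.card_map_of_injective (Subgroup.subtype_injective _), Subgroup.card_map_of_injective E.injective]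
  have hYR : Nat.card Y = Nat.card ((omegaGL Q).subgroupOf R) := by
    have h1 : Nat.card Y = Nat.card (R ⊓ omegaGL Q : Subgroup (GL (Fin 3 ⊕ Fin 3) F)) := by
      rw [← Subgroup.subgroupOf_map_subtype, Subgroup.card_map_of_injective (Subgroup.subtype_injective _)]
    have h2 : Nat.card ((omegaGL Q).subgroupOf R) = Nat.card (omegaGL Q ⊓ R : Subgroup (GL (Fin 3 ⊕ Fin 3) F)) := by
      rw [← Subgroup.subgroupOf_map_subtype, Subgroup.card_map_of_injective (Subgroup.subtype_injective _)]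
    rw [h1, h2, inf_comm]
  refine ⟨X, Subgroup.map_subtype_le _, ?_, ?_, ?_⟩
  · intro h
    have h1 : Nat.card Y = Nat.card (omegaGL Q) := by
      rw [← hXY, h]
      exact (Nat.card_congr E.toEquiv).symm
    have h2 : Y = ⊤ := Subgroup.eq_top_of_card_eq _ h1
    exact Subgroup.subgroupOf_eq_top.1 h2
  · rw [hXY, hYR]
    exact Subgroup.card_subgroup_dvd_card _
  · rw [hXY, hYR, ← Subgroup.index_mul_card ((omegaGL Q).subgroupOf R)]
    exact Nat.mul_dvd_mul_right (index_le_two fun x hx y hy hx0 hy0 =>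
      inv_mul_mem_omega hf hF hQ (hR hx) (hR hy) hx0 hy0) _

theorem fact_mono {a b : ℕ} (h : a ∣ b) (hb : b ≠ 0) : a.factorization 2 ≤ b.factorization 2 := by
  have ha : a ≠ 0 := fun e => hb (by rw [e] at h; exact zero_dvd_iff.1 h)
  exact (Nat.factorization_le_iff_dvd ha hb).2 h 2

theorem boxO6m_of (h4 : BoxSp4) (hf : 4 ≤ f) (hF : Fintype.card F = 2 ^ f) {K : Type} [Field K] [Fintype K]
    (hK : Fintype.card K = (2 ^ f) ^ 2) (hRes : ResNone K (2 ^ f)) (Q : (Fin 3 ⊕ Fin 3 → F) → F)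
    (hQ : IsNondegenerateQuadraticForm Q) (hm : ¬ IsPlusTypeOn Q ⊤) (R : Subgroup (GL (Fin 3 ⊕ Fin 3) F))
    (hR : R ≤ Cfsg.isometryGroup F Q) :
    (∀ r s, Pm (4 * f) r → Pm (6 * f) s → r ∣ Nat.card R → omegaGL Q ≤ R ∨ (¬ s ∣ Nat.card R ∧ (v2 R ≤ 2 * f + 2 ∨
      (4 * f ≤ v2 R ∧ (v2 R ≤ 4 * f + 1 ∨ Nat.card R ∣ 2 * ((2 ^ f) ^ 6 * ((2 ^ f) ^ 4 - 1) * (2 ^ f - 1))))))) ∧
    (∀ s, Pm (6 * f) s → s ∣ Nat.card R → omegaGL Q ≤ R ∨
      Nat.card R ∣ 2 * ((2 ^ f) ^ 3 * (2 ^ f + 1) * ((2 ^ f) ^ 2 - 1) * ((2 ^ f) ^ 3 + 1))) := by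
  classical
  have hf1 : 1 ≤ f := by omega
  have hfin1 : Finite (GL (Fin 3 ⊕ Fin 3) F) := inferInstance
  have hfin2 : Finite (GL (Fin 4) K) := inferInstance
  obtain ⟨X, hX, hXR, hd1, hd2⟩ := exists_sub hf1 hF hK hQ hm hR
  have hX0 : Nat.card X ≠ 0 := Nat.card_pos.ne'
  have hR0 : Nat.card R ≠ 0 := Nat.card_pos.ne'
  have hv1 : (Nat.card X).factorization 2 ≤ v2 R := fact_mono hd1 hR0
  have hv2 : v2 R ≤ (Nat.card X).factorization 2 + 1 := by
    have h1 := fact_mono hd2 (mul_ne_zero (by norm_num) hX0)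
    rw [Nat.factorization_mul (by norm_num) hX0, Finsupp.add_apply, Nat.Prime.factorization_self Nat.prime_two] at h1
    change (Nat.card R).factorization 2 ≤ _
    omega
  have hdvd : ∀ {n t : ℕ}, n ≠ 0 → Pm n t → t ∣ Nat.card R → t ∣ Nat.card X := by
    intro n t hn ht h
    exact (ht.prime.dvd_mul.1 (h.trans hd2)).resolve_left (Pm.not_dvd_two ht hn)
  constructor
  · intro r s hr hs hrR
    rcases core_four h4 hf hK hRes hr hs hX (hdvd (by omega) hr hrR) with h | ⟨h1, h2⟩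
    · exact Or.inl (hXR h)
    · refine Or.inr ⟨fun h => h1 (hdvd (by omega) hs h), ?_⟩
      rcases h2 with h2 | ⟨h2, h3⟩
      · exact Or.inl (by omega)
      · refine Or.inr ⟨by omega, ?_⟩
        rcases h3 with h3 | h3
        · exact Or.inl (by omega)
        · exact Or.inr (hd2.trans (Nat.mul_dvd_mul_left _ h3))
  · intro s hs hsR
    rcases core_six hf hK hRes hs hX (hdvd (by omega) hs hsR) with h | h
    · exact Or.inl (hXR h)
    · exact Or.inr (hd2.trans (Nat.mul_dvd_mul_left _ h))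

/-- the box, given the content of S5785 -/
theorem boxO6m_of_res (h4 : BoxSp4)
    (hRes : ∀ {K : Type} [Field K] [Fintype K] {f : ℕ}, 4 ≤ f → Fintype.card K = (2 ^ f) ^ 2 → ResNone K (2 ^ f)) :
    BoxO6m := by
  intro F _ _ f hf hF Q hQ hm R hR
  have hfact : Fact (Nat.Prime 2) := ⟨Nat.prime_two⟩
  let i : Fintype (GaloisField 2 (2 * f)) := Fintype.ofFinite _
  have hK : Fintype.card (GaloisField 2 (2 * f)) = (2 ^ f) ^ 2 := by
    rw [← Nat.card_eq_fintype_card, GaloisField.card 2 (2 * f) (by omega), ← pow_mul, mul_comm 2 f]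
  exact boxO6m_of h4 hf hF hK (hRes hf hK) Q hQ hm R hR

end main

end Cfsg.Agent.H96.U4
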