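import Cfsg.Agent.H96.U4.Pair
import Cfsg.Agent.H109.Cov.Num
import Cfsg.Agent.S5784

/-!
# S3691, box O6m: maximal subgroups of `SU_4(q)`, `q = 2 ^ f`, with `r₄` (helper96)

`case_four` : a subgroup with `r₄` of a maximal subgroup of `SU_4(q)` is `Good`
(hypothesis `ResNone`: the content of S5785)
-/

set_option autoImplicit false
set_option linter.unusedSectionVars false

namespace Cfsg.Agent.H96.U4

open Cfsg Cfsg.Geo Module Cfsg.Agent.H951
open Cfsg.Agent.H659.Rs (Pm v2 BoxSp4)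
open Cfsg.Agent.H918 (SUg)
open scoped Matrix MatrixGroups

/-- the content of S5785 for `q = 2 ^ f` -/
def ResNone (K : Type) [Field K] [Fintype K] (q : ℕ) : Prop :=
  ∀ H : Subgroup (GL (Fin 4) K), IsMaximalIn (SUg 4 K q) H → ¬ InUnitaryResidualClass H

theorem not_odd_two_pow {f : ℕ} (hf : 4 ≤ f) : ¬ Odd (2 ^ f) := by
  rw [Nat.not_odd_iff_even]
  exact Even.pow_of_ne_zero (by decide) (by omega)

theorem mod_four {f : ℕ} (hf : 4 ≤ f) : 2 ^ f % 4 ≠ 3 := by
  obtain ⟨k, rfl⟩ : ∃ k, f = k + 2 := ⟨f - 2, by omega⟩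
  rw [pow_add]
  omega

theorem to_pp {f r : ℕ} (hf : 1 ≤ f) (h : Pm (4 * f) r) : H109.Cov.PP 2 (2 * f) 2 r := by
  have := Fact.mk h.prime
  refine ⟨h.prime, fun m => ?_, ?_, Pm.not_dvd_two h (by omega)⟩
  · rw [Pm.dvd_sub_iff h, show 2 * (2 * f) = 4 * f by ring]
  · rw [show 2 * (2 * f) = 4 * f by ring, ← h.ord]
    apply ZMod.orderOf_dvd_card_sub_one
    intro h0
    apply Pm.not_dvd_two h (by omega)
    exact (ZMod.natCast_eq_zero_iff _ _).1 h0

theorem case_four {K : Type} [Field K] [Fintype K] {f r s : ℕ} (h4 : BoxSp4) (hf : 4 ≤ f)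
    (hF : Fintype.card K = (2 ^ f) ^ 2) (hR : ResNone K (2 ^ f)) (hr : Pm (4 * f) r) (hs : Pm (6 * f) s)
    {H : Subgroup (GL (Fin 4) K)} (hH : IsMaximalIn (SUg 4 K (2 ^ f)) H) {X : Subgroup (GL (Fin 4) K)} (hXH : X ≤ H)
    (hrX : r ∣ Nat.card X) : Good f s (Nat.card X) := by
  classical
  have hf1 : 1 ≤ f := by omega
  have hfr := Fact.mk hr.prime
  have hfinGL : Finite (GL (Fin 4) K) := inferInstance
  have hord := ord_four hf1 hr
  have hXS : X ≤ SUg 4 K (2 ^ f) := hXH.trans hH.1.le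
  have hXU : X ≤ Cfsg.GU 4 K (2 ^ f) := hXS.trans inf_le_left
  have hB := H950.frm_herm hF 4
  obtain ⟨x, hxX, hx, hxr, hx1⟩ := H251.GeoU.exists_elt hr.prime hrX hXU
  have hr4 : 4 < r := by
    have h1 := (to_pp hf1 hr).sub
    have h2 := hr.prime.two_le
    have h3 := Nat.le_of_dvd (by omega) h1
    omega
  have hsq := H251.GeoU.not_dvd_of_ord hr.prime hord (by norm_num)
  have hNK : Nat.card K = 2 ^ (2 * f) := by rw [Nat.card_eq_fintype_card, hF, ← pow_mul, mul_comm f 2]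
  rcases Cfsg.Agent.S5784.result (2 ^ f) hF H hH with h | h | h | h | h | h | h | h | h | h
  · -- totally isotropic
    obtain ⟨W, hW0, hW, rfl⟩ := h
    have hW' : TI (hermForm 4 K (2 ^ f)) W := fun u hu v hv => hW u hu v hv
    have hXW : X ≤ subspaceStabilizer W := hXH.trans inf_le_left
    have hxW := H251.GeoU.inv_of_mem (hXW hxX)
    have h1 := even_inv hF hr.prime hord hx hxr hx1 hxW
    have h2 : 2 * finrank K W ≤ 4 := by
      have := hB.two_mul_finrank_le (H950.nd_top hF 4) (le_top (a := W)) hW'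
      rwa [finrank_top, finrank_fintype_fun_eq_card, Fintype.card_fin] at this
    have h3 : finrank K W ≠ 0 := fun h0 => hW0 (Submodule.finrank_eq_zero.1 h0)
    obtain ⟨a, b, hab, hb, ha⟩ := plane hf1 hF hr hW' (by omega) hXS hXW hrX
    exact plane_good hf1 hs hab hb ha
  · -- nondegenerate
    exfalso
    obtain ⟨W, hW0, -, hW2, rfl⟩ := h
    have hxW := H251.GeoU.inv_of_mem ((hXH.trans inf_le_left : X ≤ subspaceStabilizer W) hxX)
    have h1 := even_inv hF hr.prime hord hx hxr hx1 hxW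
    have h3 : finrank K W ≠ 0 := fun h0 => hW0 (Submodule.finrank_eq_zero.1 h0)
    omega
  · -- four points
    exfalso
    obtain ⟨-, D, hD, rfl⟩ := h
    have h1 : r ∣ Nat.card (decompositionStabilizer D) :=
      hrX.trans (Subgroup.card_dvd_of_le (hXH.trans inf_le_left))
    rcases H251.GeoCard.decomp hD.decomp hr.prime (H251.GeoU.not_dvd_card hF hr.prime hsq) h1 with h2 | h2
    · omega
    · rw [H251.GeoU.nat_card_eq hF] at h2
      have h3 := H251.GeoU.ord_le_of_div (Nat.one_le_pow _ _ (LieClassical.HermBasic.q_pos hF)) h2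
      rw [H251.GeoU.ord_sq_even hord (by decide)] at h3
      omega
  · -- two nondegenerate planes
    exfalso
    obtain ⟨-, D, hD, rfl⟩ := h
    have hxD : x ^ 2 ∈ subspaceStabilizer (D 0) := sq_mem ((hXH.trans inf_le_left : X ≤ _) hxX)
    have hinv := H251.GeoU.inv_of_mem hxD
    rw [H251.GeoCard.toLin_pow] at hinv
    have hx2r : (Matrix.toLin' (x : Matrix (Fin 4) (Fin 4) K) ^ 2) ^ r = 1 := by
      rw [← pow_mul, mul_comm, pow_mul, hxr, one_pow]
    have hx21 : Matrix.toLin' (x : Matrix (Fin 4) (Fin 4) K) ^ 2 ≠ 1 := by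
      intro h2
      apply hx1
      obtain ⟨k, hk⟩ := hr.prime.odd_of_ne_two (by omega)
      rw [hk, pow_succ, pow_mul, h2, one_pow, one_mul] at hxr
      exact hxr
    have hx2 : Isom (hermForm 4 K (2 ^ f)) (Matrix.toLin' (x : Matrix (Fin 4) (Fin 4) K) ^ 2) := by
      intro u v
      rw [sq]
      change hermForm 4 K (2 ^ f) (Matrix.toLin' (x : Matrix (Fin 4) (Fin 4) K) (Matrix.toLin' (x : Matrix (Fin 4) (Fin 4) K) u))
        (Matrix.toLin' (x : Matrix (Fin 4) (Fin 4) K) (Matrix.toLin' (x : Matrix (Fin 4) (Fin 4) K) v)) = _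
      rw [hx, hx]
    exact not_nd hF hr.prime hord hx2 hx2r hx21 hinv (hD.decomp.finrank_eq 0)
      (fun u hu hu0 => (hD.nondegenerate 0 u hu hu0).2)
  · -- two totally isotropic planes
    obtain ⟨-, D, hD, hts, rfl⟩ := h
    exact pair_good hf1 hs (pair_dvd hF hD (fun i u hu v hv => hts i u hu v hv) hXU (hXH.trans inf_le_left))
  · -- subfields of odd index
    exfalso
    obtain ⟨F₀, r', P, hr', hro, hcd, -, rfl⟩ := h
    have h3 : 3 ≤ r' := by
      have := hr'.two_le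
      rcases hro with ⟨k, hk⟩
      omega
    exact H109.Cov.kill_subfield Nat.prime_two (to_pp hf1 hr) (by omega) hNK hr'.two_le hcd P le_rfl
      (by rw [Fintype.card_fin]; omega) (hrX.trans (Subgroup.card_dvd_of_le (hXH.trans inf_le_left)))
  · -- symplectic
    obtain ⟨F₀, P, ζ, hcd, hζ, -, hP, hiso, rfl⟩ := h
    obtain ⟨i0, Y, hF0, hY, hYc⟩ := exists_sp hF hcd hζ hP hiso hXS (hXH.trans inf_le_left)
    rw [← hYc]
    exact sp_good h4 hf hF0 hr hs hY (by rwa [hYc])
  · exact absurd h.1 (not_odd_two_pow hf)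
  · exfalso
    obtain ⟨p, R, -, hq, hp4, -⟩ := h
    exact mod_four hf (hq ▸ hp4)
  · exact absurd h (hR H hH)

end Cfsg.Agent.H96.U4
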