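import Cfsg.Agent.H96.U4.Num
import Cfsg.Agent.S0277
import Cfsg.Agent.ClassicalGeometry.HermFrame

/-!
# S3691, box O6m: the stabiliser of a nondegenerate point of `SU_4(q)` (helper96)

`none_dvd` : its order divides `|GU_3(q)| = q³ (q + 1) (q² - 1) (q³ + 1)`
-/

set_option autoImplicit false
set_option linter.unusedSectionVars false

namespace Cfsg.Agent.H96.U4

open Cfsg Cfsg.Geo Module Cfsg.Agent.H951
open scoped Matrix MatrixGroups

variable {K : Type} [Field K] [Fintype K] {q : ℕ}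

/-- an orthonormal basis `b 0, b 1, b 2, u` -/
structure Onb (q : ℕ) (b : Fin 3 → (Fin 4 → K)) (u : Fin 4 → K) : Prop where
  bb : ∀ i j, hermForm 4 K q (b i) (b j) = if i = j then 1 else 0
  bu : ∀ i, hermForm 4 K q (b i) u = 0
  uu : hermForm 4 K q u u = 1

section onb

variable (hF : Fintype.card K = q ^ 2) {b : Fin 3 → (Fin 4 → K)} {u : Fin 4 → K} (h : Onb q b u)

include hF h

theorem Onb.ub (i : Fin 3) : hermForm 4 K q u (b i) = 0 := by
  rw [(H950.frm_herm hF 4).herm (b i) u, h.bu, one_mul, map_zero]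

theorem Onb.li : LinearIndependent K (Sum.elim b (fun _ : Fin 1 => u)) := by
  have hB := H950.frm_herm hF 4
  rw [Fintype.linearIndependent_iff]
  intro g hg i
  rw [Fintype.sum_sum_type] at hg
  simp only [Sum.elim_inl, Sum.elim_inr] at hg
  rcases i with j | j
  · have h1 := congrArg (fun z => hermForm 4 K q z (b j)) hg
    simp only [hB.add_left, hB.sum_left, hB.smul_left, h.bb, h.ub hF, mul_zero, Finset.sum_const_zero, add_zero,
      hB.zero_left, mul_ite, mul_one, Finset.sum_ite_eq', Finset.mem_univ, if_true] at h1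
    exact h1
  · have h1 := congrArg (fun z => hermForm 4 K q z u) hg
    simp only [hB.add_left, hB.sum_left, hB.smul_left, h.bu, h.uu, mul_zero, Finset.sum_const_zero, zero_add,
      hB.zero_left, mul_one, Fin.sum_univ_one] at h1
    have hj : j = 0 := Subsingleton.elim _ _
    rw [hj]
    exact h1

theorem Onb.basis : ∃ e : Basis (Fin 3 ⊕ Fin 1) K (Fin 4 → K), (∀ i, e (Sum.inl i) = b i) ∧
    (∀ i, e (Sum.inr i) = u) ∧ (∀ z j, e.repr z (Sum.inl j) = hermForm 4 K q z (b j)) ∧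
    (∀ z j, e.repr z (Sum.inr j) = hermForm 4 K q z u) := by
  have hB := H950.frm_herm hF 4
  let e := basisOfLinearIndependentOfCardEqFinrank (h.li hF) (by
    rw [Fintype.card_sum, Fintype.card_fin, Fintype.card_fin, finrank_fintype_fun_eq_card, Fintype.card_fin])
  have he : ∀ i, e i = Sum.elim b (fun _ : Fin 1 => u) i := fun i => by
    rw [coe_basisOfLinearIndependentOfCardEqFinrank]
  have hs : ∀ z, z = ∑ j, e.repr z (Sum.inl j) • b j + ∑ j : Fin 1, e.repr z (Sum.inr j) • u := by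
    intro z
    conv_lhs => rw [← e.sum_repr z, Fintype.sum_sum_type]
    simp only [he, Sum.elim_inl, Sum.elim_inr]
  refine ⟨e, fun i => he _, fun i => he _, fun z j => ?_, fun z j => ?_⟩
  · conv_rhs => rw [hs z]
    simp only [hB.add_left, hB.sum_left, hB.smul_left, h.bb, h.ub hF, mul_zero, Finset.sum_const_zero, add_zero,
      mul_ite, mul_one, Finset.sum_ite_eq', Finset.mem_univ, if_true]
  · conv_rhs => rw [hs z]
    have hj : j = 0 := Subsingleton.elim _ _
    rw [hj]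
    simp only [hB.add_left, hB.sum_left, hB.smul_left, h.bu, h.uu, mul_zero, Finset.sum_const_zero, zero_add,
      mul_one, Fin.sum_univ_one]

theorem Onb.expand (z : Fin 4 → K) : z = ∑ j, hermForm 4 K q z (b j) • b j + hermForm 4 K q z u • u := by
  obtain ⟨e, h1, h2, h3, h4⟩ := h.basis hF
  conv_lhs => rw [← e.sum_repr z, Fintype.sum_sum_type]
  simp only [h1, h2, h3, h4, Fin.sum_univ_one]

end onb

/-- the block on the span of `b` -/
def M (q : ℕ) (b : Fin 3 → (Fin 4 → K)) (g : GL (Fin 4) K) : Matrix (Fin 3) (Fin 3) K :=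
  Matrix.of fun j i => hermForm 4 K q ((g : Matrix (Fin 4) (Fin 4) K) *ᵥ b i) (b j)

/-- `g` stabilises the line of `u` -/
def FixL (g : GL (Fin 4) K) (u : Fin 4 → K) : Prop := ∃ c : K, c ≠ 0 ∧ (g : Matrix (Fin 4) (Fin 4) K) *ᵥ u = c • u

section blocks

variable (hF : Fintype.card K = q ^ 2) {b : Fin 3 → (Fin 4 → K)} {u : Fin 4 → K} (h : Onb q b u) {g g' : GL (Fin 4) K}

include hF h

theorem Onb.gb_u (hg : FixL g u) (hu : g ∈ Cfsg.GU 4 K q) (i : Fin 3) :
    hermForm 4 K q ((g : Matrix (Fin 4) (Fin 4) K) *ᵥ b i) u = 0 := by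
  obtain ⟨c, hc0, hc⟩ := hg
  have h1 := H918.mem_GU.1 hu (b i) u
  rw [hc, h.bu, (H950.frm_herm hF 4).smul_right] at h1
  rcases mul_eq_zero.1 h1 with h2 | h2
  · exact absurd ((map_eq_zero _).1 h2) hc0
  · exact h2

theorem Onb.mulVec_b (hg : FixL g u) (hu : g ∈ Cfsg.GU 4 K q) (i : Fin 3) :
    (g : Matrix (Fin 4) (Fin 4) K) *ᵥ b i = ∑ j, M q b g j i • b j := by
  conv_lhs => rw [h.expand hF ((g : Matrix (Fin 4) (Fin 4) K) *ᵥ b i)]
  rw [h.gb_u hF hg hu, zero_smul, add_zero]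
  rfl

theorem Onb.M_mul (hg' : FixL g' u) (hu' : g' ∈ Cfsg.GU 4 K q) : M q b (g * g') = M q b g * M q b g' := by
  have hB := H950.frm_herm hF 4
  ext j i
  rw [Matrix.mul_apply]
  change hermForm 4 K q (((g * g' : GL (Fin 4) K) : Matrix (Fin 4) (Fin 4) K) *ᵥ b i) (b j) = _
  rw [Units.val_mul, ← Matrix.mulVec_mulVec, h.mulVec_b hF hg' hu', Matrix.mulVec_sum, hB.sum_left]
  refine Finset.sum_congr rfl fun k _ => ?_
  rw [Matrix.mulVec_smul, hB.smul_left, mul_comm]
  rfl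

theorem Onb.M_one : M q b (1 : GL (Fin 4) K) = 1 := by
  ext j i
  change hermForm 4 K q (((1 : GL (Fin 4) K) : Matrix (Fin 4) (Fin 4) K) *ᵥ b i) (b j) = _
  rw [Units.val_one, Matrix.one_mulVec, h.bb, Matrix.one_apply]
  by_cases hij : i = j
  · rw [if_pos hij, if_pos hij.symm]
  · rw [if_neg hij, if_neg (fun e => hij e.symm)]

theorem Onb.herm_sum (x y : Fin 3 → K) :
    hermForm 4 K q (∑ i, x i • b i) (∑ i, y i • b i) = hermForm 3 K q x y := by
  have hB := H950.frm_herm hF 4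
  rw [hB.sum_left]
  change _ = ∑ i, x i * y i ^ q
  refine Finset.sum_congr rfl fun i _ => ?_
  rw [hB.smul_left, hB.sum_right]
  congr 1
  rw [Finset.sum_eq_single i]
  · rw [hB.smul_right, h.bb, if_pos rfl, mul_one, H950.cj_apply]
  · intro j _ hj
    rw [hB.smul_right, h.bb, if_neg hj.symm, mul_zero]
  · intro hi; exact absurd (Finset.mem_univ _) hi

theorem Onb.mulVec_sum (hg : FixL g u) (hu : g ∈ Cfsg.GU 4 K q) (x : Fin 3 → K) :
    (g : Matrix (Fin 4) (Fin 4) K) *ᵥ (∑ i, x i • b i) = ∑ j, (M q b g *ᵥ x) j • b j := by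
  rw [Matrix.mulVec_sum]
  simp only [Matrix.mulVec_smul, h.mulVec_b hF hg hu, Finset.smul_sum]
  rw [Finset.sum_comm]
  refine Finset.sum_congr rfl fun j _ => ?_
  rw [Matrix.mulVec, dotProduct, Finset.sum_smul]
  refine Finset.sum_congr rfl fun i _ => ?_
  rw [smul_smul, mul_comm]

theorem Onb.herm_M (hg : FixL g u) (hu : g ∈ Cfsg.GU 4 K q) (x y : Fin 3 → K) :
    hermForm 3 K q (M q b g *ᵥ x) (M q b g *ᵥ y) = hermForm 3 K q x y := by
  rw [← h.herm_sum hF, ← h.herm_sum hF, ← h.mulVec_sum hF hg hu, ← h.mulVec_sum hF hg hu, H918.mem_GU.1 hu]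

theorem Onb.eq_one (hg : FixL g u) (hu : g ∈ H918.SUg 4 K q) (hM : M q b g = 1) : g = 1 := by
  have hB := H950.frm_herm hF 4
  obtain ⟨e, h1, h2, h3, h4⟩ := h.basis hF
  have hgb : ∀ i, (g : Matrix (Fin 4) (Fin 4) K) *ᵥ b i = b i := by
    intro i
    rw [h.mulVec_b hF hg hu.1, hM]
    simp only [Matrix.one_apply, ite_smul, one_smul, zero_smul, Finset.sum_ite_eq', Finset.mem_univ, if_true]
  obtain ⟨c, hc0, hc⟩ := hg
  have h5 : LinearMap.toMatrix e e (Matrix.toLin' (g : Matrix (Fin 4) (Fin 4) K)) =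
      Matrix.fromBlocks 1 0 0 (Matrix.of fun _ _ : Fin 1 => c) := by
    ext a b'
    rw [LinearMap.toMatrix_apply, Matrix.toLin'_apply]
    rcases a with a | a <;> rcases b' with b' | b'
    · rw [h1, h3, hgb, h.bb, Matrix.fromBlocks_apply₁₁, Matrix.one_apply]
      by_cases hab : a = b'
      · rw [if_pos hab, if_pos hab.symm]
      · rw [if_neg hab, if_neg (fun e => hab e.symm)]
    · rw [h2, h3, hc, hB.smul_left, h.ub hF, mul_zero, Matrix.fromBlocks_apply₁₂, Matrix.zero_apply]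
    · rw [h1, h4, hgb, h.bu, Matrix.fromBlocks_apply₂₁, Matrix.zero_apply]
    · rw [h2, h4, hc, hB.smul_left, h.uu, mul_one, Matrix.fromBlocks_apply₂₂, Matrix.of_apply]
  have h6 : (g : Matrix (Fin 4) (Fin 4) K).det = c := by
    rw [← LinearMap.det_toLin', ← LinearMap.det_toMatrix e, h5, Matrix.det_fromBlocks_zero₂₁, Matrix.det_one, one_mul,
      Matrix.det_fin_one, Matrix.of_apply]
  rw [(H918.mem_SUg.1 hu).2] at h6
  rw [← h6, one_smul] at hc
  apply Units.ext
  apply Matrix.toLin'.injective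
  apply e.ext
  rintro (i | i)
  · rw [h1, Matrix.toLin'_apply, hgb, Units.val_one, Matrix.toLin'_apply, Matrix.one_mulVec]
  · rw [h2, Matrix.toLin'_apply, hc, Units.val_one, Matrix.toLin'_apply, Matrix.one_mulVec]

end blocks

theorem card_gu3 (hF : Fintype.card K = q ^ 2) :
    Nat.card (Cfsg.GU 3 K q) = q ^ 3 * (q + 1) * (q ^ 2 - 1) * (q ^ 3 + 1) := by
  rw [Cfsg.Agent.S0277.result hF 3]
  simp only [Finset.prod_range_succ, Finset.prod_range_zero]
  norm_num
  ring

theorem none_dvd (hF : Fintype.card K = q ^ 2) {W : Submodule K (Fin 4 → K)} (hW1 : finrank K W = 1)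
    (hW : IsNondegenerateOn (hermForm 4 K q) W) {X : Subgroup (GL (Fin 4) K)} (hX : X ≤ H918.SUg 4 K q)
    (hXW : X ≤ subspaceStabilizer W) : Nat.card X ∣ q ^ 3 * (q + 1) * (q ^ 2 - 1) * (q ^ 3 + 1) := by
  classical
  have hB := H950.frm_herm hF 4
  have hW' : Nd (hermForm 4 K q) W := fun v hv hv0 => (hW v hv hv0).2
  obtain ⟨g₀, hg₀W, hg₀⟩ := ClassicalGeometry.HermFrame.exists_orthonormal hF 1 W hW1 (fun v hv h0 => by
    by_contra hne
    obtain ⟨y, hy, hy0⟩ := hW' v hv hne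
    exact hy0 (h0 y hy))
  have hnd : Nd (hermForm 4 K q) (hB.perp W) := by
    have := hB.nd_perp_inf (H950.nd_top hF 4) hW' le_top
    rwa [inf_top_eq] at this
  have hdim : finrank K (hB.perp W) = 3 := by
    have := hB.finrank_perp_inf hW' (le_top (a := W))
    rw [inf_top_eq, finrank_top, finrank_fintype_fun_eq_card, Fintype.card_fin, hW1] at this
    omega
  obtain ⟨b, hbW, hbb⟩ := ClassicalGeometry.HermFrame.exists_orthonormal hF 3 (hB.perp W) hdim (fun v hv h0 => by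
    by_contra hne
    obtain ⟨y, hy, hy0⟩ := hnd v hv hne
    exact hy0 (h0 y hy))
  have h : Onb q b (g₀ 0) := ⟨hbb, fun i => hbW i _ (hg₀W 0), by rw [hg₀, if_pos rfl]⟩
  have hg0 : g₀ 0 ≠ 0 := by
    intro h0
    have h1 := h.uu
    rw [h0, hB.zero_left] at h1
    exact zero_ne_one h1
  have hfix : ∀ x ∈ X, FixL x (g₀ 0) := by
    intro x hx
    have h1 := (H918.mem_subspaceStabilizer.1 (hXW hx) _).1 (hg₀W 0)
    obtain ⟨c, hc⟩ := exists_smul_eq_of_finrank_eq_one hW1 (x := (⟨g₀ 0, hg₀W 0⟩ : W))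
      (fun e => hg0 (congrArg Subtype.val e)) ⟨_, h1⟩
    have hc' : c • g₀ 0 = (x : Matrix (Fin 4) (Fin 4) K) *ᵥ g₀ 0 := congrArg Subtype.val hc
    refine ⟨c, ?_, hc'.symm⟩
    rintro rfl
    rw [zero_smul] at hc'
    apply hg0
    have h3 := congrArg (fun z => ((x⁻¹ : GL (Fin 4) K) : Matrix (Fin 4) (Fin 4) K) *ᵥ z) hc'
    simp only [Matrix.mulVec_mulVec, ← Units.val_mul, inv_mul_cancel, Units.val_one, Matrix.one_mulVec,
      Matrix.mulVec_zero] at h3
    exact h3.symm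
  let θ : X →* Matrix (Fin 3) (Fin 3) K :=
    { toFun := fun g => M q b (g : GL (Fin 4) K)
      map_one' := h.M_one hF
      map_mul' := fun a b => h.M_mul hF (hfix _ b.2) (hX b.2).1 }
  have hθ : Function.Injective θ.toHomUnits := by
    rw [injective_iff_map_eq_one]
    intro g hg
    have hM : M q b (g : GL (Fin 4) K) = 1 :=
      congrArg (fun u : (Matrix (Fin 3) (Fin 3) K)ˣ => (u : Matrix (Fin 3) (Fin 3) K)) hg
    exact Subtype.ext (h.eq_one hF (hfix _ g.2) (hX g.2) hM)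
  have hr : θ.toHomUnits.range ≤ Cfsg.GU 3 K q := by
    rintro _ ⟨g, rfl⟩
    rw [H918.mem_GU]
    intro x y
    exact h.herm_M hF (hfix _ g.2) (hX g.2).1 x y
  rw [← card_gu3 hF]
  have h1 : Nat.card X = Nat.card θ.toHomUnits.range := Nat.card_congr (MonoidHom.ofInjective hθ).toEquiv
  rw [h1]
  exact Subgroup.card_dvd_of_le hr

end Cfsg.Agent.H96.U4
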