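import Cfsg.Agent.H96.U4.CaseA
import Cfsg.Agent.H96.U4.NOne

/-!
# S3691, box O6m: maximal subgroups of `SU_4(q)`, `q = 2 ^ f`, with `r₆` (helper96)

* `case_six` : a subgroup with `r₆` of a maximal subgroup of `SU_4(q)`: its order divides `|GU_3(q)|`
* `core_four`, `core_six` : subgroups of `SU_4(q)`
-/

set_option autoImplicit false
set_option linter.unusedSectionVars false

namespace Cfsg.Agent.H96.U4

open Cfsg Cfsg.Geo Module Cfsg.Agent.H951
open Cfsg.Agent.H659.Rs (Pm v2 BoxSp4)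
open Cfsg.Agent.H918 (SUg)
open scoped Matrix MatrixGroups

theorem case_six {K : Type} [Field K] [Fintype K] {f s : ℕ} (hf : 4 ≤ f)
    (hF : Fintype.card K = (2 ^ f) ^ 2) (hR : ResNone K (2 ^ f)) (hs : Pm (6 * f) s)
    {H : Subgroup (GL (Fin 4) K)} (hH : IsMaximalIn (SUg 4 K (2 ^ f)) H) {X : Subgroup (GL (Fin 4) K)} (hXH : X ≤ H)
    (hsX : s ∣ Nat.card X) : Nat.card X ∣ (2 ^ f) ^ 3 * (2 ^ f + 1) * ((2 ^ f) ^ 2 - 1) * ((2 ^ f) ^ 3 + 1) := by
  classical
  have hf1 : 1 ≤ f := by omega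
  have hfr := Fact.mk hs.prime
  have hfinGL : Finite (GL (Fin 4) K) := inferInstance
  have hord := ord_six hf1 hs
  have hXS : X ≤ SUg 4 K (2 ^ f) := hXH.trans hH.1.le
  have hsH : s ∣ Nat.card H := hsX.trans (Subgroup.card_dvd_of_le hXH)
  have hs4 : 4 < s := by
    have h1 : 6 * f ∣ s - 1 := by
      rw [← hs.ord]
      apply ZMod.orderOf_dvd_card_sub_one
      intro h0
      apply Pm.not_dvd_two hs (by omega)
      exact (ZMod.natCast_eq_zero_iff _ _).1 h0
    have h2 := hs.prime.two_le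
    have h3 := Nat.le_of_dvd (by omega) h1
    omega
  have hiff : ∀ k, s ∣ 2 ^ k - 1 ↔ 2 * 3 * f ∣ k := fun k => Pm.dvd_sub_iff hs k
  rcases Cfsg.Agent.S5784.result (2 ^ f) hF H hH with h | h | h | h | h | h | h | h | h | h
  · exfalso
    obtain ⟨W, hW0, hW, rfl⟩ := h
    exact H251.GeoU.kill_ts hF hs.prime hord (by decide) (by norm_num) (by norm_num) hW0 hW
      (hsH.trans (Subgroup.card_dvd_of_le (inf_le_inf_left _ inf_le_left)))
  · obtain ⟨W, hW0, hW, hW2, rfl⟩ := h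
    have h1 := H251.GeoU.kill_nd hF hs.prime hord (by decide) (by norm_num) (by norm_num) hW0 hW2
      (hsH.trans (Subgroup.card_dvd_of_le (inf_le_inf_left _ inf_le_left)))
    exact none_dvd hF h1.2 hW hXS (hXH.trans inf_le_left)
  · exfalso
    obtain ⟨-, D, hD, rfl⟩ := h
    exact H251.GeoU.kill_decomp hF hs.prime hord (by decide) (by norm_num) (by norm_num) hs4 hD.decomp
      (H251.GeoU.dvd_left hsH)
  · exfalso
    obtain ⟨-, D, hD, rfl⟩ := h
    exact H251.GeoU.kill_decomp hF hs.prime hord (by decide) (by norm_num) (by norm_num) hs4 hD.decomp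
      (H251.GeoU.dvd_left hsH)
  · exfalso
    obtain ⟨-, D, hD, -, rfl⟩ := h
    exact H251.GeoU.kill_decomp hF hs.prime hord (by decide) (by norm_num) (by norm_num) hs4 hD
      (H251.GeoU.dvd_left hsH)
  · exfalso
    obtain ⟨F₀, r', P, hr', hro, hcd, -, rfl⟩ := h
    exact H251.GeoU.kill_subfield hF Nat.prime_two rfl hf1 hs.prime hiff hord (by decide) (by norm_num) (by norm_num)
      hr'.two_le hcd (H251.GeoU.dvd_left hsH)
  · exfalso
    obtain ⟨F₀, P, ζ, hcd, hζ, -, hP, hiso, rfl⟩ := h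
    exact H251.GeoU.kill_subfield hF Nat.prime_two rfl hf1 hs.prime hiff hord (by decide) (by norm_num) (by norm_num)
      le_rfl hcd (H251.GeoU.dvd_left hsH)
  · exact absurd h.1 (not_odd_two_pow hf)
  · exfalso
    obtain ⟨p, R, -, hq, hp4, -⟩ := h
    exact mod_four hf (hq ▸ hp4)
  · exact absurd h (hR H hH)

theorem isMaximalIn_map {G Γ : Type*} [Group G] [Group Γ] {f : G →* Γ} (hf : Function.Injective f) {S : Subgroup Γ}
    (hr : f.range = S) {K : Subgroup G} (hK : IsCoatom K) : IsMaximalIn S (K.map f) := by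
  refine ⟨lt_of_le_of_ne (by rw [← hr]; exact Subgroup.map_le_range f K) fun h => ?_, fun M h1 h2 => ?_⟩
  · apply hK.1
    apply Subgroup.map_injective hf
    rw [h, ← hr, MonoidHom.range_eq_map]
  · have h3 : K ≤ M.comap f := Subgroup.map_le_iff_le_comap.1 h1
    have h4 : (M.comap f).map f = M := by
      rw [Subgroup.map_comap_eq, hr, inf_eq_right.2 h2]
    rcases eq_or_lt_of_le h3 with h | h
    · left
      rw [← h4, ← h]
    · right
      rw [← h4, hK.2 _ h, ← hr, MonoidHom.range_eq_map]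

/-- a proper subgroup is contained in a maximal one -/
theorem exists_max {K : Type} [Field K] [Fintype K] {q : ℕ} {X : Subgroup (GL (Fin 4) K)} (hX : X ≤ SUg 4 K q)
    (hne : X ≠ SUg 4 K q) : ∃ H, IsMaximalIn (SUg 4 K q) H ∧ X ≤ H := by
  classical
  have hfin : Finite (Cfsg.SU 4 K q) := inferInstance
  have h1 : (X.comap (H918.suHom 4 K q)).map (H918.suHom 4 K q) = X := by
    apply le_antisymm (Subgroup.map_comap_le _ _)
    intro g hg
    obtain ⟨A, rfl⟩ := H918.exists_suHom (hX hg)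
    exact ⟨A, hg, rfl⟩
  have h2 : X.comap (H918.suHom 4 K q) ≠ ⊤ := by
    intro h
    rw [h, H918.map_suHom_top] at h1
    exact hne h1.symm
  obtain ⟨N, hN, hKN⟩ := (eq_top_or_exists_le_coatom (X.comap (H918.suHom 4 K q))).resolve_left h2
  refine ⟨N.map (H918.suHom 4 K q), ?_, ?_⟩
  · exact isMaximalIn_map H918.suHom_injective H918.range_suHom hN
  · rw [← h1]
    exact Subgroup.map_mono hKN

theorem core_four {K : Type} [Field K] [Fintype K] {f r s : ℕ} (h4 : BoxSp4) (hf : 4 ≤ f)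
    (hF : Fintype.card K = (2 ^ f) ^ 2) (hR : ResNone K (2 ^ f)) (hr : Pm (4 * f) r) (hs : Pm (6 * f) s)
    {X : Subgroup (GL (Fin 4) K)} (hX : X ≤ SUg 4 K (2 ^ f)) (hrX : r ∣ Nat.card X) :
    X = SUg 4 K (2 ^ f) ∨ Good f s (Nat.card X) := by
  by_cases hne : X = SUg 4 K (2 ^ f)
  · exact Or.inl hne
  · obtain ⟨H, hH, hXH⟩ := exists_max hX hne
    exact Or.inr (case_four h4 hf hF hR hr hs hH hXH hrX)

theorem core_six {K : Type} [Field K] [Fintype K] {f s : ℕ} (hf : 4 ≤ f)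
    (hF : Fintype.card K = (2 ^ f) ^ 2) (hR : ResNone K (2 ^ f)) (hs : Pm (6 * f) s)
    {X : Subgroup (GL (Fin 4) K)} (hX : X ≤ SUg 4 K (2 ^ f)) (hsX : s ∣ Nat.card X) :
    X = SUg 4 K (2 ^ f) ∨ Nat.card X ∣ (2 ^ f) ^ 3 * (2 ^ f + 1) * ((2 ^ f) ^ 2 - 1) * ((2 ^ f) ^ 3 + 1) := by
  by_cases hne : X = SUg 4 K (2 ^ f)
  · exact Or.inl hne
  · obtain ⟨H, hH, hXH⟩ := exists_max hX hne
    exact Or.inr (case_six hf hF hR hs hH hXH hsX)

end Cfsg.Agent.H96.U4
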