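import Cfsg.Agent.H251.GeoU
import Cfsg.Agent.H659.Rs.Box

/-!
# S3691, box O6m: elements of order `r₄` of `SU_4(q)` (helper96)

`r` a prime with `ord_r(-q) = 4`; `x` an isometry of the 4-dimensional unitary space, `x ^ r = 1`, `x ≠ 1`:
`x` has no fixed vectors, the invariant subspaces have even dimension, no invariant plane is nondegenerate;
an invariant totally isotropic plane has an invariant totally isotropic complement
-/

set_option autoImplicit false

namespace Cfsg.Agent.H96.U4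

open Cfsg Cfsg.Geo Module Cfsg.Agent.H951
open Cfsg.Agent.H659.Rs (Pm v2)
open scoped Matrix MatrixGroups

/-! ### arithmetic -/

theorem Pm.two_pow_ne {n r : ℕ} (h : Pm n r) {k : ℕ} (hk : 0 < k) (hkn : k < n) : ((2 : ℕ) : ZMod r) ^ k ≠ 1 := by
  intro h1
  have h2 := orderOf_dvd_of_pow_eq_one h1
  rw [h.ord] at h2
  have := Nat.le_of_dvd hk h2
  omega

theorem Pm.two_pow {n r : ℕ} (h : Pm n r) : ((2 : ℕ) : ZMod r) ^ n = 1 := by rw [← h.ord, pow_orderOf_eq_one]

/-- `2 ^ i ≡ 1` modulo `r` -/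
theorem Pm.dvd_of {n r : ℕ} (h : Pm n r) {i : ℕ} (hi : ((2 : ℕ) : ZMod r) ^ i = 1) : n ∣ i := by
  rw [← h.ord]
  exact orderOf_dvd_of_pow_eq_one hi

theorem sq_eq_neg_one {r : ℕ} [Fact r.Prime] {a : ZMod r} (h1 : a ^ 2 = 1) (h2 : a ≠ 1) : a = -1 := by
  have h3 : (a - 1) * (a + 1) = 0 := by linear_combination h1
  rcases mul_eq_zero.1 h3 with h4 | h4
  · exact absurd (sub_eq_zero.1 h4) h2
  · exact eq_neg_of_add_eq_zero_left h4

theorem ord_four {f r : ℕ} (hf : 1 ≤ f) (h : Pm (4 * f) r) : orderOf (-((2 ^ f : ℕ) : ZMod r)) = 4 := by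
  have := Fact.mk h.prime
  set a : ZMod r := ((2 ^ f : ℕ) : ZMod r) with ha
  have hk : ∀ k : ℕ, a ^ k = ((2 : ℕ) : ZMod r) ^ (f * k) := by
    intro k
    rw [ha, Nat.cast_pow, ← pow_mul]
  have h4 : a ^ 4 = 1 := by rw [hk, mul_comm]; exact Pm.two_pow h
  have h2 : a ^ 2 ≠ 1 := by rw [hk]; exact Pm.two_pow_ne h (by omega) (by omega)
  have h5 : orderOf (-a) = 2 ^ (1 + 1) := by
    apply orderOf_eq_prime_pow
    · rw [pow_one, neg_sq]; exact h2
    · rw [show (2 : ℕ) ^ (1 + 1) = 4 by norm_num, Even.neg_pow (by decide)]; exact h4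
  rw [h5]; norm_num

theorem ord_six {f s : ℕ} (hf : 1 ≤ f) (h : Pm (6 * f) s) : orderOf (-((2 ^ f : ℕ) : ZMod s)) = 3 := by
  have := Fact.mk h.prime
  set a : ZMod s := ((2 ^ f : ℕ) : ZMod s) with ha
  have hk : ∀ k : ℕ, a ^ k = ((2 : ℕ) : ZMod s) ^ (f * k) := by
    intro k
    rw [ha, Nat.cast_pow, ← pow_mul]
  have h6 : (a ^ 3) ^ 2 = 1 := by rw [← pow_mul, hk, mul_comm]; exact Pm.two_pow h
  have h3 : a ^ 3 ≠ 1 := by rw [hk]; exact Pm.two_pow_ne h (by omega) (by omega)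
  have h7 : a ^ 3 = -1 := sq_eq_neg_one h6 h3
  have : Fact (Nat.Prime 3) := ⟨Nat.prime_three⟩
  apply orderOf_eq_prime
  · rw [Odd.neg_pow (by decide), h7, neg_neg]
  · intro h8
    have h9 : a ^ 2 = 1 := by rw [← neg_sq, h8, one_pow]
    rw [hk] at h9
    exact Pm.two_pow_ne h (by omega) (by omega) h9

/-! ### the elements -/

section elt

variable {K : Type} [Field K] [Fintype K] {q r : ℕ} (hF : Fintype.card K = q ^ 2) (hr : r.Prime)
  (hord : orderOf (-(q : ZMod r)) = 4) {x : Module.End K (Fin 4 → K)} (hx : Isom (hermForm 4 K q) x) (hxr : x ^ r = 1)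
  (hx1 : x ≠ 1)

include hF hr hord hx hxr hx1

theorem fx_bot : fx x = ⊥ := by
  have := Fact.mk hr
  have hsq := H251.GeoU.not_dvd_of_ord hr hord (by norm_num)
  have h1 := H251.GeoU.fix_le hF hsq hx hxr hx1
  rw [hord] at h1
  exact Submodule.finrank_eq_zero.1 (by omega)

theorem even_inv {W : Submodule K (Fin 4 → K)} (hW : Inv x W) : 2 ∣ finrank K W := by
  have := Fact.mk hr
  have hsq := H251.GeoU.not_dvd_of_ord hr hord (by norm_num)
  have hrK := H251.GeoU.natCast_ne hF hr hsq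
  obtain ⟨b, hb⟩ := H950.exists_finrank_eq hrK hxr hW
  rw [fx_bot hF hr hord hx hxr hx1, inf_bot_eq, finrank_bot, zero_add, hF, H251.GeoU.ord_sq_even hord (by decide)] at hb
  exact ⟨b, hb⟩

theorem not_nd {W : Submodule K (Fin 4 → K)} (hW : Inv x W) (h2 : finrank K W = 2) : ¬ Nd (hermForm 4 K q) W := by
  intro hnd
  have := Fact.mk hr
  have hsq := H251.GeoU.not_dvd_of_ord hr hord (by norm_num)
  have h1 := H950.ord_neg_dvd hF hsq hx hxr hW hnd (by rw [fx_bot hF hr hord hx hxr hx1, inf_bot_eq])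
  rw [hord, h2] at h1
  omega

theorem ti_of_inv {W : Submodule K (Fin 4 → K)} (hW : Inv x W) (h2 : finrank K W = 2) : TI (hermForm 4 K q) W := by
  have hB := H950.frm_herm hF 4
  have hinj : Function.Injective x := by
    intro a b hab
    have h3 : ∀ v, (x ^ r) v = v := fun v => by rw [hxr]; rfl
    obtain ⟨k, rfl⟩ : ∃ k, r = k + 1 := ⟨r - 1, by have := hr.two_le; omega⟩
    rw [← h3 a, ← h3 b, pow_succ]
    change (x ^ k) (x a) = (x ^ k) (x b)
    rw [hab]
  have h3 : Inv x (W ⊓ hB.perp W) := hW.inf (hx.inv_perp hB hinj hW)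
  have h4 := even_inv hF hr hord hx hxr hx1 h3
  have h5 : finrank K ↥(W ⊓ hB.perp W) ≤ finrank K W := Submodule.finrank_mono inf_le_left
  have h6 : finrank K ↥(W ⊓ hB.perp W) ≠ 0 := by
    intro h0
    apply not_nd hF hr hord hx hxr hx1 hW h2
    rw [hB.nd_iff]
    exact Submodule.finrank_eq_zero.1 h0
  have h7 : W ⊓ hB.perp W = W := Submodule.eq_of_le_of_finrank_eq inf_le_left (by omega)
  rw [hB.ti_iff, ← inf_eq_left]
  exact h7

/-- an invariant complement -/
theorem exists_compl {W : Submodule K (Fin 4 → K)} (hW : Inv x W) (h2 : finrank K W = 2) :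
    ∃ W' : Submodule K (Fin 4 → K), Inv x W' ∧ finrank K W' = 2 ∧ TI (hermForm 4 K q) W' ∧ W ⊓ W' = ⊥ ∧ W ⊔ W' = ⊤ := by
  have := Fact.mk hr
  have hsq := H251.GeoU.not_dvd_of_ord hr hord (by norm_num)
  have hrK := H251.GeoU.natCast_ne hF hr hsq
  obtain ⟨T, hT, -, h3, h4⟩ := exists_rel_compl (semisimple_of_pow hrK hxr) hW inv_top (le_top (a := W))
  have h5 := finrank_sup_of_disj h3
  rw [h4, finrank_top, finrank_fintype_fun_eq_card, Fintype.card_fin] at h5
  have h6 : finrank K T = 2 := by omega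
  exact ⟨T, hT, h6, ti_of_inv hF hr hord hx hxr hx1 hT h6, h3, h4⟩

end elt

end Cfsg.Agent.H96.U4
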