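import Cfsg.Agent.H96.U4.CaseB
import Cfsg.Agent.H955.QMinus
import Cfsg.Agent.H884.OmegaGL
import Cfsg.Agent.LieClassical.OrthCenter
import Cfsg.Agent.LieClassical.OrthFourCommon
import Cfsg.Agent.ClassicalGeometry.OrthDickson
import Cfsg.Agent.S0303
import Cfsg.Agent.S0279

/-!
# S3691, box O6m: `Ω₆⁻(q) ≅ SU₄(q)`, `q = 2 ^ f` (helper96)

* `omega_equiv` : the isomorphism
* `index_omega` : the index of `Ω` in the isometry group is two
-/

set_option autoImplicit false
set_option linter.unusedSectionVars false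

namespace Cfsg.Agent.H96.U4

open Cfsg Cfsg.Geo Module QuadraticMap Cfsg.Agent.H955 Cfsg.Agent.LieClassical.OrthCore Cfsg.Agent.LieClassical.OrthTrans
open Cfsg.Agent.LieClassical.QuadForms
open Cfsg.Agent.H918 (SUg)
open Cfsg.Agent.H884.OmegaGL (bundle nondeg_bundle)
open scoped Matrix MatrixGroups

theorem commutator_equiv {G H : Type*} [Group G] [Group H] (e : G ≃* H) :
    Nonempty (commutator G ≃* commutator H) := by
  have h1 : (commutator G).map (e : G →* H) = commutator H := by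
    rw [_root_.commutator_def, _root_.commutator_def, Subgroup.map_commutator]
    rw [Subgroup.map_top_of_surjective _ e.surjective]
  exact ⟨(e.subgroupMap (commutator G)).trans (MulEquiv.subgroupCongr h1)⟩

theorem polar_nondeg {F : Type} [Field F] {ι : Type} [Fintype ι] [DecidableEq ι] {Q : QuadraticForm F (ι → F)}
    (h : Nondeg Q) : (polarBilin Q).Nondegenerate := by
  refine ⟨fun x hx => h x fun y => hx y, fun x hx => h x fun y => ?_⟩
  have := hx y
  change polar Q y x = 0 at this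
  rw [polar_comm]
  exact this

section iso

variable {F K : Type} [Field F] [Fintype F] [Field K] [Fintype K] {f : ℕ}

theorem su_equiv (hf : 1 ≤ f) (hK : Fintype.card K = (2 ^ f) ^ 2) :
    Nonempty (PSU 4 K (2 ^ f) ≃* SUg 4 K (2 ^ f)) := by
  have h1 := Cfsg.Agent.S0279.result hK 4 (by norm_num)
  have hgcd : Nat.gcd 4 (2 ^ f + 1) = 1 := by
    have h2 : Nat.Coprime 2 (2 ^ f + 1) := by
      rw [Nat.coprime_two_left]
      exact Even.add_one (Even.pow_of_ne_zero (by decide) (by omega))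
    exact (Nat.Coprime.pow_left 2 h2 : Nat.Coprime (2 ^ 2) _)
  rw [hgcd] at h1
  have h2 : Subgroup.center (Cfsg.SU 4 K (2 ^ f)) = ⊥ := Subgroup.eq_bot_of_card_eq _ h1
  have e1 : PSU 4 K (2 ^ f) ≃* Cfsg.SU 4 K (2 ^ f) :=
    (QuotientGroup.quotientMulEquivOfEq h2).trans QuotientGroup.quotientBot
  have e2 : Cfsg.SU 4 K (2 ^ f) ≃* SUg 4 K (2 ^ f) :=
    (MonoidHom.ofInjective H918.suHom_injective).trans (MulEquiv.subgroupCongr H918.range_suHom)
  exact ⟨e1.trans e2⟩

theorem not_isPlus {Q : (Fin 3 ⊕ Fin 3 → F) → F} (hQ : IsNondegenerateQuadraticForm Q) (hm : ¬ IsPlusTypeOn Q ⊤) :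
    ¬ IsPlus (bundle Q hQ) := by
  rintro ⟨U, hU, hd⟩
  exact hm ⟨U, le_top, hU, by rw [finrank_top]; exact hd⟩

/-- **the isomorphism** -/
theorem omega_equiv (hf : 1 ≤ f) (hF : Fintype.card F = 2 ^ f) (hK : Fintype.card K = (2 ^ f) ^ 2)
    {Q : (Fin 3 ⊕ Fin 3 → F) → F} (hQ : IsNondegenerateQuadraticForm Q) (hm : ¬ IsPlusTypeOn Q ⊤) :
    Nonempty (omegaGL Q ≃* SUg 4 K (2 ^ f)) := by
  obtain ⟨a, b, hab⟩ := exists_aniso_coeff F
  obtain ⟨e, he⟩ := exists_minus_equiv hab 2 (bundle Q hQ) (nondeg_bundle Q hQ)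
    (by rw [finrank_fintype_fun_eq_card]; rfl) (not_isPlus hQ hm)
  obtain ⟨e1⟩ := LieClassical.OrthFourCommon.exists_isometryGroup_equiv e Q (quadFormMinus 2 F a b) (fun v => by
    have := he v
    rwa [coe_minusForm] at this)
  obtain ⟨e2⟩ := LieClassical.OrthFourCommon.exists_isometryGroup_equiv (LinearEquiv.refl F _) (quadFormMinus 2 F a b)
    (quadFormMinus 2 F a b) (fun _ => rfl)
  obtain ⟨e3⟩ := commutator_equiv (e1.trans e2.symm)
  have h2 : (2 : F) = 0 := by
    have hF0 : ((Fintype.card F : ℕ) : F) = 0 := FiniteField.cast_card_eq_zero F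
    rw [hF, Nat.cast_pow] at hF0
    exact_mod_cast (pow_eq_zero_iff (by omega)).1 hF0
  have hc : Subgroup.center (Omega F (quadFormMinus 2 F a b)) = ⊥ := by
    have h1 : Subgroup.center (Omega F ⇑(minusForm 2 F a b)) = ⊥ := by
      refine LieClassical.OrthCenter.center_omega_eq_bot_char_two h2 (polar_nondeg (nondeg_minus 2 hab)) (by simp) ?_
      refine ⟨Pi.single (Sum.inl (Sum.inl 0)) 1, ?_, ?_⟩
      · intro h0
        have := congrFun h0 (Sum.inl (Sum.inl 0))
        simp at this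
      · rw [coe_minusForm]
        simp [quadFormMinus]
    rwa [coe_minusForm] at h1
  obtain ⟨e5⟩ := Cfsg.Agent.S0303.result hF hK a b hab
  obtain ⟨e6⟩ := su_equiv hf hK
  have e4 : POmega F (quadFormMinus 2 F a b) ≃* Omega F (quadFormMinus 2 F a b) :=
    (QuotientGroup.quotientMulEquivOfEq hc).trans QuotientGroup.quotientBot
  have e7 : Omega F Q ≃* omegaGL Q := Subgroup.equivMapOfInjective _ _ (Subgroup.subtype_injective _)
  exact ⟨e7.symm.trans (e3.trans (e4.symm.trans (e5.trans e6)))⟩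

end iso

end Cfsg.Agent.H96.U4
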