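import Cfsg.Agent.H96.U4.Num

/-!
# S3691, box O6m: the stabiliser of a pair of totally isotropic planes (helper96)

`pair_dvd` : `|X| ∣ 2 q² (q⁴ - 1) (q² - 1)`
-/

set_option autoImplicit false
set_option linter.unusedSectionVars false

namespace Cfsg.Agent.H96.U4

open Cfsg Cfsg.Geo Module Cfsg.Agent.H951
open Cfsg.Agent.H659.Rs (Pm v2)
open scoped Matrix MatrixGroups

variable {K : Type} [Field K] [Fintype K] {q : ℕ}

theorem mulVec_inj (g : GL (Fin 4) K) {u v : Fin 4 → K}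
    (h : (g : Matrix (Fin 4) (Fin 4) K) *ᵥ u = (g : Matrix (Fin 4) (Fin 4) K) *ᵥ v) : u = v := by
  have h1 := congrArg (fun z => ((g⁻¹ : GL (Fin 4) K) : Matrix (Fin 4) (Fin 4) K) *ᵥ z) h
  simp only [Matrix.mulVec_mulVec, ← Units.val_mul, inv_mul_cancel, Units.val_one, Matrix.one_mulVec] at h1
  exact h1

theorem mem_stab_of_map_eq {W : Submodule K (Fin 4 → K)} {g : GL (Fin 4) K}
    (h : W.map (Matrix.toLin' (g : Matrix (Fin 4) (Fin 4) K)) = W) : g ∈ subspaceStabilizer W := by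
  rw [H918.mem_subspaceStabilizer]
  intro v
  constructor
  · intro hv
    rw [← h]
    exact ⟨v, hv, Matrix.toLin'_apply _ _⟩
  · intro hv
    rw [← h] at hv
    obtain ⟨u, hu, huv⟩ := hv
    rw [Matrix.toLin'_apply] at huv
    rwa [← mulVec_inj g huv]

theorem map_eq_of_mem_stab {W : Submodule K (Fin 4 → K)} {g : GL (Fin 4) K} (h : g ∈ subspaceStabilizer W) :
    W.map (Matrix.toLin' (g : Matrix (Fin 4) (Fin 4) K)) = W := by
  apply le_antisymm
  · rintro _ ⟨u, hu, rfl⟩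
    rw [Matrix.toLin'_apply]
    exact (H918.mem_subspaceStabilizer.1 h u).1 hu
  · intro u hu
    have h1 := (H918.mem_subspaceStabilizer.1 ((subspaceStabilizer W).inv_mem h) u).1 hu
    refine ⟨_, h1, ?_⟩
    rw [Matrix.toLin'_apply, Matrix.mulVec_mulVec, ← Units.val_mul, mul_inv_cancel, Units.val_one, Matrix.one_mulVec]

theorem map_mul' (W : Submodule K (Fin 4 → K)) (a b : GL (Fin 4) K) :
    W.map (Matrix.toLin' ((a * b : GL (Fin 4) K) : Matrix (Fin 4) (Fin 4) K)) =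
      (W.map (Matrix.toLin' (b : Matrix (Fin 4) (Fin 4) K))).map (Matrix.toLin' (a : Matrix (Fin 4) (Fin 4) K)) := by
  rw [Units.val_mul, Matrix.toLin'_mul, Submodule.map_comp]

theorem map_inv' {W W' : Submodule K (Fin 4 → K)} {a : GL (Fin 4) K}
    (h : W.map (Matrix.toLin' (a : Matrix (Fin 4) (Fin 4) K)) = W') :
    W'.map (Matrix.toLin' ((a⁻¹ : GL (Fin 4) K) : Matrix (Fin 4) (Fin 4) K)) = W := by
  rw [← h, ← map_mul', inv_mul_cancel, Units.val_one, Matrix.toLin'_one, Submodule.map_id]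

section pair

variable {D : Fin 2 → Submodule K (Fin 4 → K)}

theorem ne_of_decomp {m : ℕ} (hD : IsMDecomposition m D) : D 0 ≠ D 1 := by
  intro h
  have h1 := hD.indep.pairwiseDisjoint (show (0 : Fin 2) ≠ 1 by decide)
  change Disjoint (D 0) (D 1) at h1
  rw [← h, disjoint_self] at h1
  have h2 := hD.finrank_eq 0
  rw [h1, finrank_bot] at h2
  have := hD.pos
  omega

/-- the two possibilities -/
theorem cases_pair {g : GL (Fin 4) K} (hg : g ∈ decompositionStabilizer D) :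
    ((D 0).map (Matrix.toLin' (g : Matrix (Fin 4) (Fin 4) K)) = D 0 ∧
      (D 1).map (Matrix.toLin' (g : Matrix (Fin 4) (Fin 4) K)) = D 1) ∨
    ((D 0).map (Matrix.toLin' (g : Matrix (Fin 4) (Fin 4) K)) = D 1 ∧
      (D 1).map (Matrix.toLin' (g : Matrix (Fin 4) (Fin 4) K)) = D 0) := by
  obtain ⟨σ, hσ⟩ := hg
  have h0 := hσ 0
  have h1 := hσ 1
  have hne : σ 0 ≠ σ 1 := fun h => absurd (σ.injective h) (by decide)
  generalize σ 0 = a at h0 hne
  generalize σ 1 = b at h1 hne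
  fin_cases a <;> fin_cases b
  · exact absurd rfl hne
  · exact Or.inl ⟨h0, h1⟩
  · exact Or.inr ⟨h0, h1⟩
  · exact absurd rfl hne

theorem sq_mem {g : GL (Fin 4) K} (hg : g ∈ decompositionStabilizer D) : g ^ 2 ∈ subspaceStabilizer (D 0) := by
  apply mem_stab_of_map_eq
  rw [sq, map_mul']
  rcases cases_pair hg with ⟨h0, h1⟩ | ⟨h0, h1⟩
  · rw [h0, h0]
  · rw [h0, h1]

theorem inv_mul_mem {x y : GL (Fin 4) K} (hx : x ∈ decompositionStabilizer D)
    (hy : y ∈ decompositionStabilizer D) (hx0 : x ∉ subspaceStabilizer (D 0)) (hy0 : y ∉ subspaceStabilizer (D 0)) :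
    x⁻¹ * y ∈ subspaceStabilizer (D 0) := by
  apply mem_stab_of_map_eq
  have h1 : ∀ z : GL (Fin 4) K, z ∈ decompositionStabilizer D → z ∉ subspaceStabilizer (D 0) →
      (D 0).map (Matrix.toLin' (z : Matrix (Fin 4) (Fin 4) K)) = D 1 := by
    intro z hz hz0
    rcases cases_pair hz with ⟨h0, -⟩ | ⟨h0, -⟩
    · exact absurd (mem_stab_of_map_eq h0) hz0
    · exact h0
  rw [map_mul', h1 y hy hy0]
  exact map_inv' (h1 x hx hx0)

/-- the order of the stabiliser of both planes -/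
theorem fix_dvd (hF : Fintype.card K = q ^ 2) (hD : IsMDecomposition 2 D) (hts : ∀ i, TI (hermForm 4 K q) (D i))
    {X : Subgroup (GL (Fin 4) K)} (hX : X ≤ Cfsg.GU 4 K q) (hXD : X ≤ decompositionStabilizer D) :
    Nat.card ((subspaceStabilizer (D 0)).subgroupOf X) ∣ (q ^ 4 - 1) * (q ^ 2 * (q ^ 2 - 1)) := by
  classical
  have hinf := hD.indep.pairwiseDisjoint (show (0 : Fin 2) ≠ 1 by decide)
  change Disjoint (D 0) (D 1) at hinf
  have hsup : D 0 ⊔ D 1 = ⊤ := by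
    rw [← hD.iSup_eq_top]
    apply le_antisymm
    · exact sup_le (le_iSup D 0) (le_iSup D 1)
    · apply iSup_le
      intro i
      fin_cases i
      · exact le_sup_left
      · exact le_sup_right
  obtain ⟨w, v, h, hw, hv, hspan⟩ := exists_hyp hF (hts 0) (hts 1) (hD.finrank_eq 0) (hD.finrank_eq 1) hsup
  have hB := H950.frm_herm hF 4
  have hfix : ∀ g : GL (Fin 4) K, g ∈ subspaceStabilizer (D 0) → Fixes q w g := fun g hg i j =>
    hts 0 _ ((H918.mem_subspaceStabilizer.1 hg _).1 (hw i)) _ (hw j)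
  let θ : ((subspaceStabilizer (D 0)).subgroupOf X) →* Matrix (Fin 2) (Fin 2) K :=
    { toFun := fun g => A q w v ((g : X) : GL (Fin 4) K)
      map_one' := h.A_one hF
      map_mul' := fun a b => h.A_mul hF (hfix _ b.2) }
  have hθ : Function.Injective θ.toHomUnits := by
    rw [injective_iff_map_eq_one]
    intro g hg
    have hA : A q w v ((g : X) : GL (Fin 4) K) = 1 :=
      congrArg (fun u : (Matrix (Fin 2) (Fin 2) K)ˣ => (u : Matrix (Fin 2) (Fin 2) K)) hg
    have hgU : ((g : X) : GL (Fin 4) K) ∈ Cfsg.GU 4 K q := hX (g : X).2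
    have hgF : Fixes q w ((g : X) : GL (Fin 4) K) := hfix _ g.2
    have hw1 := h.w_of hF hgF hA
    have hD1 := h.D_one hF hgF hgU hA
    have hmap : (D 1).map (Matrix.toLin' (((g : X) : GL (Fin 4) K) : Matrix (Fin 4) (Fin 4) K)) = D 1 := by
      rcases cases_pair (hXD (g : X).2) with ⟨-, h1⟩ | ⟨h0, -⟩
      · exact h1
      · exfalso
        apply ne_of_decomp hD
        rw [← h0]
        exact (map_eq_of_mem_stab g.2).symm
    have hv1 : ∀ i, (((g : X) : GL (Fin 4) K) : Matrix (Fin 4) (Fin 4) K) *ᵥ v i = v i := by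
      intro i
      rw [h.mulVec_v hF, hD1]
      have h3 : ∀ j, hermForm 4 K q ((((g : X) : GL (Fin 4) K) : Matrix (Fin 4) (Fin 4) K) *ᵥ v i) (v j) = 0 := by
        intro j
        refine hts 1 _ ?_ _ (hv j)
        rw [← hmap]
        exact ⟨v i, hv i, Matrix.toLin'_apply _ _⟩
      simp only [h3, Matrix.one_apply, ite_smul, one_smul, zero_smul, Finset.sum_const_zero, zero_add,
        Finset.sum_ite_eq', Finset.mem_univ, if_true]
    apply Subtype.ext
    apply Subtype.ext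
    apply h.ext' hF
    · intro i
      rw [hw1]
      change w i = ((1 : GL (Fin 4) K) : Matrix (Fin 4) (Fin 4) K) *ᵥ w i
      rw [Units.val_one, Matrix.one_mulVec]
    · intro i
      rw [hv1]
      change v i = ((1 : GL (Fin 4) K) : Matrix (Fin 4) (Fin 4) K) *ᵥ v i
      rw [Units.val_one, Matrix.one_mulVec]
  have h2 := Subgroup.card_dvd_of_injective θ.toHomUnits hθ
  have h3 : Nat.card ((Matrix (Fin 2) (Fin 2) K)ˣ) = ∏ i : Fin 2, (Fintype.card K ^ 2 - Fintype.card K ^ (i : ℕ)) :=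
    Matrix.card_GL_field 2
  rw [h3, hF, Fin.prod_univ_two] at h2
  have e1 : (q ^ 2) ^ 2 - (q ^ 2) ^ ((0 : Fin 2) : ℕ) = q ^ 4 - 1 := by
    rw [← pow_mul]; simp
  have e2 : (q ^ 2) ^ 2 - (q ^ 2) ^ ((1 : Fin 2) : ℕ) = q ^ 2 * (q ^ 2 - 1) := by
    rw [Fin.val_one, pow_one, Nat.mul_sub, mul_one, sq (q ^ 2)]
  rwa [e1, e2] at h2

theorem pair_dvd (hF : Fintype.card K = q ^ 2) (hD : IsMDecomposition 2 D) (hts : ∀ i, TI (hermForm 4 K q) (D i))
    {X : Subgroup (GL (Fin 4) K)} (hX : X ≤ Cfsg.GU 4 K q) (hXD : X ≤ decompositionStabilizer D) :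
    Nat.card X ∣ 2 * ((q ^ 4 - 1) * (q ^ 2 * (q ^ 2 - 1))) := by
  rw [← Subgroup.index_mul_card ((subspaceStabilizer (D 0)).subgroupOf X)]
  exact Nat.mul_dvd_mul (index_le_two fun x hx y hy hx0 hy0 => inv_mul_mem (hXD hx) (hXD hy) hx0 hy0)
    (fix_dvd hF hD hts hX hXD)

end pair

/-- the numbers -/
theorem pair_good {f s n : ℕ} (hf : 1 ≤ f) (hs : Pm (6 * f) s)
    (h : n ∣ 2 * (((2 ^ f) ^ 4 - 1) * ((2 ^ f) ^ 2 * ((2 ^ f) ^ 2 - 1)))) : Good f s n := by
  have hsp := hs.prime.prime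
  have h1 : n ∣ 2 ^ (2 * f + 1) * (((2 ^ f) ^ 4 - 1) * ((2 ^ f) ^ 2 - 1)) := by
    refine h.trans (dvd_of_eq ?_)
    have e : 2 ^ (2 * f + 1) = (2 ^ f) ^ 2 * 2 := by rw [← pow_mul, ← pow_succ, mul_comm f 2]
    rw [e]
    ring
  refine ⟨fun h3 => ?_, Or.inl (fact_le h1 ((odd_sub hf (by norm_num)).mul (odd_sub hf (by norm_num))))⟩
  have h3 := h3.trans h1
  rcases hsp.dvd_mul.1 h3 with h3 | h3
  · exact Pm.not_dvd_two_pow hs (by omega) h3
  · rcases hsp.dvd_mul.1 h3 with h3 | h3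
    · exact Pm.not_dvd_sub hs hf (by norm_num) (by norm_num) h3
    · exact Pm.not_dvd_sub hs hf (by norm_num) (by norm_num) h3

end Cfsg.Agent.H96.U4
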