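import Cfsg.Agent.H96.U4.Hyp
import Mathlib.LinearAlgebra.Matrix.GeneralLinearGroup.Card

/-!
# S3691, box O6m: the stabiliser of a totally isotropic plane in `SU_4(q)`, `q = 2 ^ f` (helper96)

`plane` : if `r₄` divides the order of `X ≤ Stab(W)` then `|X| ∣ q² (q⁴ - 1) (q - 1)` or `|X| = q⁴ m`, `m ∣ q² (q⁴ - 1) (q - 1)`
-/

set_option autoImplicit false

namespace Cfsg.Agent.H96.U4

open Cfsg Cfsg.Geo Module Cfsg.Agent.H951
open Cfsg.Agent.H659.Rs (Pm v2)
open scoped Matrix MatrixGroups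

variable {K : Type} [Field K] [Fintype K] {q : ℕ}

section basic

variable (hF : Fintype.card K = q ^ 2) {w v : Fin 2 → (Fin 4 → K)} (h : Hyp q w v) {g g' : GL (Fin 4) K}

include hF h

theorem Hyp.ext' (h1 : ∀ i, (g : Matrix (Fin 4) (Fin 4) K) *ᵥ w i = (g' : Matrix (Fin 4) (Fin 4) K) *ᵥ w i)
    (h2 : ∀ i, (g : Matrix (Fin 4) (Fin 4) K) *ᵥ v i = (g' : Matrix (Fin 4) (Fin 4) K) *ᵥ v i) : g = g' := by
  apply Units.ext
  apply Matrix.toLin'.injective
  apply LinearMap.ext
  intro u
  rw [Matrix.toLin'_apply, Matrix.toLin'_apply, h.expand hF u, Matrix.mulVec_add, Matrix.mulVec_add, Matrix.mulVec_sum,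
    Matrix.mulVec_sum, Matrix.mulVec_sum, Matrix.mulVec_sum]
  congr 1
  · refine Finset.sum_congr rfl fun j _ => ?_
    rw [Matrix.mulVec_smul, Matrix.mulVec_smul, h1]
  · refine Finset.sum_congr rfl fun j _ => ?_
    rw [Matrix.mulVec_smul, Matrix.mulVec_smul, h2]

theorem Hyp.D_one (hg : Fixes q w g) (hu : g ∈ Cfsg.GU 4 K q) (hA : A q w v g = 1) : D q w v g = 1 := by
  have h1 := h.A_D hF hg hu
  rw [hA, Matrix.transpose_one, one_mul] at h1
  ext i j
  have h2 := congrFun (congrFun h1 i) j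
  rw [Matrix.map_apply] at h2
  apply (H950.cj hF).injective
  rw [h2, Matrix.one_apply]
  split_ifs
  · exact (map_one _).symm
  · exact (map_zero _).symm

theorem Hyp.w_of (hg : Fixes q w g) (hA : A q w v g = 1) (i : Fin 2) :
    (g : Matrix (Fin 4) (Fin 4) K) *ᵥ w i = w i := by
  rw [h.mulVec_w hF hg, hA]
  simp only [Matrix.one_apply, ite_smul, one_smul, zero_smul, Finset.sum_ite_eq', Finset.mem_univ, if_true]

/-- the off-diagonal block -/
def be (q : ℕ) (v : Fin 2 → (Fin 4 → K)) (g : GL (Fin 4) K) (j i : Fin 2) : K :=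
  hermForm 4 K q ((g : Matrix (Fin 4) (Fin 4) K) *ᵥ v i) (v j)

theorem Hyp.v_of (hg : Fixes q w g) (hu : g ∈ Cfsg.GU 4 K q) (hA : A q w v g = 1) (i : Fin 2) :
    (g : Matrix (Fin 4) (Fin 4) K) *ᵥ v i = ∑ j, be q v g j i • w j + v i := by
  rw [h.mulVec_v hF (g := g), h.D_one hF hg hu hA]
  congr 1
  simp only [Matrix.one_apply, ite_smul, one_smul, zero_smul, Finset.sum_ite_eq', Finset.mem_univ, if_true]

theorem Hyp.be_herm (hg : Fixes q w g) (hu : g ∈ Cfsg.GU 4 K q) (hA : A q w v g = 1) (k i : Fin 2) :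
    be q v g k i + be q v g i k ^ q = 0 := by
  have hB := H950.frm_herm hF 4
  have h1 := H918.mem_GU.1 hu (v i) (v k)
  rw [h.vv, h.v_of hF hg hu hA i, hB.add_left, hB.sum_left, h.v_of hF hg hu hA k] at h1
  simp only [hB.add_right, hB.sum_right, hB.smul_left, hB.smul_right, h.wv, h.ww, h.vv, h.vw hF, mul_zero,
    Finset.sum_const_zero, zero_add, add_zero, mul_ite, mul_one, Finset.sum_ite_eq', Finset.sum_ite_eq,
    Finset.mem_univ, if_true] at h1
  rw [← h1]
  rfl

end basic

section two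

variable (hF : Fintype.card K = q ^ 2) (h2 : (2 : K) = 0) {w v : Fin 2 → (Fin 4 → K)} (h : Hyp q w v) {g g' : GL (Fin 4) K}

include hF h2 h

theorem Hyp.sq_one (hg : Fixes q w g) (hu : g ∈ Cfsg.GU 4 K q) (hA : A q w v g = 1) : g * g = 1 := by
  have hw := h.w_of hF hg hA
  have hv := h.v_of hF hg hu hA
  apply h.ext' hF
  · intro i
    rw [Units.val_mul, ← Matrix.mulVec_mulVec, hw, hw, Units.val_one, Matrix.one_mulVec]
  · intro i
    rw [Units.val_mul, ← Matrix.mulVec_mulVec, hv, Matrix.mulVec_add, Matrix.mulVec_sum, Units.val_one,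
      Matrix.one_mulVec, hv]
    have h3 : ∑ j, (g : Matrix (Fin 4) (Fin 4) K) *ᵥ (be q v g j i • w j) = ∑ j, be q v g j i • w j :=
      Finset.sum_congr rfl fun j _ => by rw [Matrix.mulVec_smul, hw]
    rw [h3, ← add_assoc]
    have h4 : ∀ u : Fin 4 → K, u + u = 0 := fun u => by
      funext a
      rw [Pi.add_apply, ← two_mul, h2, zero_mul]; rfl
    rw [h4, zero_add]

end two

/-! ### the kernel -/

section kernel

variable (hF : Fintype.card K = q ^ 2)

include hF

theorem card_skew : Nat.card {a : K // a + a ^ q = 0} ≤ q := by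
  classical
  have hq := LieClassical.HermBasic.two_le hF
  let P : Polynomial K := Polynomial.X ^ q + Polynomial.X
  have hP : P.natDegree = q := by
    have : P = Polynomial.X ^ q + Polynomial.X := rfl
    rw [this, Polynomial.natDegree_add_eq_left_of_natDegree_lt]
    · exact Polynomial.natDegree_X_pow q
    · rw [Polynomial.natDegree_X_pow, Polynomial.natDegree_X]; omega
  have hP0 : P ≠ 0 := by
    intro h0
    rw [h0, Polynomial.natDegree_zero] at hP
    omega
  have h1 : ∀ a : {a : K // a + a ^ q = 0}, a.1 ∈ P.roots.toFinset := by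
    intro a
    rw [Multiset.mem_toFinset, Polynomial.mem_roots hP0, Polynomial.IsRoot.def, Polynomial.eval_add, Polynomial.eval_pow,
      Polynomial.eval_X, add_comm]
    exact a.2
  have h2 : Nat.card {a : K // a + a ^ q = 0} ≤ Nat.card P.roots.toFinset :=
    Nat.card_le_card_of_injective (fun a => (⟨a.1, h1 a⟩ : P.roots.toFinset))
      (fun a b hab => Subtype.ext (congrArg (fun z : P.roots.toFinset => (z : K)) hab))
  refine h2.trans ?_
  rw [Nat.card_eq_fintype_card, Fintype.card_coe]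
  exact (Multiset.toFinset_card_le _).trans ((Polynomial.card_roots' P).trans hP.le)

theorem card_kernel_le {w v : Fin 2 → (Fin 4 → K)} (h : Hyp q w v) {N : Subgroup (GL (Fin 4) K)}
    (hN : ∀ g ∈ N, Fixes q w g ∧ g ∈ Cfsg.GU 4 K q ∧ A q w v g = 1) : Nat.card N ≤ q ^ 4 := by
  classical
  let f : N → {a : K // a + a ^ q = 0} × {a : K // a + a ^ q = 0} × K := fun g =>
    (⟨be q v g 0 0, h.be_herm hF (hN g g.2).1 (hN g g.2).2.1 (hN g g.2).2.2 0 0⟩,
      ⟨be q v g 1 1, h.be_herm hF (hN g g.2).1 (hN g g.2).2.1 (hN g g.2).2.2 1 1⟩, be q v g 0 1)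
  have hf : Function.Injective f := by
    intro g g' hgg
    have h0 : be q v (g : GL (Fin 4) K) 0 0 = be q v (g' : GL (Fin 4) K) 0 0 := congrArg (fun z => (z.1 : K)) hgg
    have h1 : be q v (g : GL (Fin 4) K) 1 1 = be q v (g' : GL (Fin 4) K) 1 1 := congrArg (fun z => (z.2.1 : K)) hgg
    have h01 : be q v (g : GL (Fin 4) K) 0 1 = be q v (g' : GL (Fin 4) K) 0 1 := congrArg (fun z => z.2.2) hgg
    obtain ⟨a1, a2, a3⟩ := hN g g.2
    obtain ⟨b1, b2, b3⟩ := hN g' g'.2
    have h10 : be q v (g : GL (Fin 4) K) 1 0 = be q v (g' : GL (Fin 4) K) 1 0 := by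
      have e1 := h.be_herm hF a1 a2 a3 1 0
      have e2 := h.be_herm hF b1 b2 b3 1 0
      rw [h01] at e1
      exact add_right_cancel (e1.trans e2.symm)
    have hbe : ∀ j i, be q v (g : GL (Fin 4) K) j i = be q v (g' : GL (Fin 4) K) j i := by
      intro j i
      fin_cases j <;> fin_cases i
      · exact h0
      · exact h01
      · exact h10
      · exact h1
    apply Subtype.ext
    apply h.ext' hF
    · intro i
      rw [h.w_of hF a1 a3, h.w_of hF b1 b3]
    · intro i
      rw [h.v_of hF a1 a2 a3, h.v_of hF b1 b2 b3]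
      congr 1
      exact Finset.sum_congr rfl fun j _ => by rw [hbe]
  have h1 := Nat.card_le_card_of_injective f hf
  rw [Nat.card_prod, Nat.card_prod, Nat.card_eq_fintype_card (α := K), hF] at h1
  have h2 := card_skew hF
  calc Nat.card N ≤ _ := h1
    _ ≤ q * (q * q ^ 2) := Nat.mul_le_mul h2 (Nat.mul_le_mul_right _ h2)
    _ = q ^ 4 := by ring

end kernel

/-! ### the image -/

section image

omit [Fintype K] in
theorem det_surj : Function.Surjective (Matrix.GeneralLinearGroup.det : GL (Fin 2) K →* Kˣ) := by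
  intro u
  have hd : (Matrix.diagonal ![(u : K), 1]).det = (u : K) := by
    rw [Matrix.det_diagonal, Fin.prod_univ_two]; simp
  refine ⟨Matrix.GeneralLinearGroup.mkOfDetNeZero (Matrix.diagonal ![(u : K), 1]) (by rw [hd]; exact u.ne_zero), ?_⟩
  apply Units.ext
  exact hd

theorem card_ker_det : Nat.card (Matrix.GeneralLinearGroup.det : GL (Fin 2) K →* Kˣ).ker =
    Fintype.card K * (Fintype.card K ^ 2 - 1) := by
  classical
  set Q := Fintype.card K with hQ
  have hQ2 : 2 ≤ Q := Fintype.one_lt_card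
  have h1 := Subgroup.card_mul_index (Matrix.GeneralLinearGroup.det : GL (Fin 2) K →* Kˣ).ker
  rw [Subgroup.index_ker, MonoidHom.range_eq_top.2 det_surj, Subgroup.card_top, Nat.card_eq_fintype_card (α := Kˣ),
    Fintype.card_units, Matrix.card_GL_field, Fin.prod_univ_two, ← hQ] at h1
  have h2 : (Q ^ 2 - Q ^ ((0 : Fin 2) : ℕ)) * (Q ^ 2 - Q ^ ((1 : Fin 2) : ℕ)) = Q * (Q ^ 2 - 1) * (Q - 1) := by
    have e1 : ((0 : Fin 2) : ℕ) = 0 := rfl
    have e2 : ((1 : Fin 2) : ℕ) = 1 := rfl
    rw [e1, e2, pow_zero, pow_one]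
    have e3 : Q ^ 2 - Q = Q * (Q - 1) := by rw [Nat.mul_sub, mul_one, sq]
    rw [e3]; ring
  rw [h2] at h1
  exact Nat.eq_of_mul_eq_mul_right (by omega) h1

/-- a subgroup of `GL_2(q²)` with `det ^ (q - 1) = 1` -/
theorem card_image_dvd (hF : Fintype.card K = q ^ 2) {Y : Subgroup (GL (Fin 2) K)}
    (hY : ∀ y ∈ Y, (y : Matrix (Fin 2) (Fin 2) K).det ^ (q - 1) = 1) : Nat.card Y ∣ q ^ 2 * (q ^ 4 - 1) * (q - 1) := by
  classical
  let f : Y →* Kˣ := Matrix.GeneralLinearGroup.det.comp Y.subtype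
  have h1 := Subgroup.card_mul_index f.ker
  rw [Subgroup.index_ker] at h1
  rw [← h1]
  apply Nat.mul_dvd_mul
  · have h2 : Nat.card f.ker ∣ Nat.card (Matrix.GeneralLinearGroup.det : GL (Fin 2) K →* Kˣ).ker := by
      have h3 : (f.ker.map Y.subtype) ≤ (Matrix.GeneralLinearGroup.det : GL (Fin 2) K →* Kˣ).ker := by
        rintro _ ⟨y, hy, rfl⟩
        exact hy
      have h4 := Subgroup.card_dvd_of_le h3
      rwa [Subgroup.card_map_of_injective Y.subtype_injective] at h4
    rw [card_ker_det, hF] at h2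
    have : q ^ 2 * ((q ^ 2) ^ 2 - 1) = q ^ 2 * (q ^ 4 - 1) := by rw [← pow_mul]
    rwa [this] at h2
  · have h2 : f.range ≤ (powMonoidHom (q - 1) : Kˣ →* Kˣ).ker := by
      rintro _ ⟨y, rfl⟩
      rw [MonoidHom.mem_ker]
      apply Units.ext
      exact hY y y.2
    refine (Subgroup.card_dvd_of_le h2).trans ?_
    rw [IsCyclic.card_powMonoidHom_ker]
    exact Nat.gcd_dvd_right _ _

end image

/-! ### the fixed points -/

section fixed

variable (hF : Fintype.card K = q ^ 2) {r : ℕ} (hr : r.Prime) (hord : orderOf (-(q : ZMod r)) = 4)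

include hF hr hord

theorem exists_ne_conj : ∃ c : K, c - H950.cj hF c ≠ 0 := by
  by_contra hcon
  push Not at hcon
  have hq := LieClassical.HermBasic.two_le hF
  obtain ⟨u, hu⟩ := IsCyclic.exists_generator (α := Kˣ)
  have ho := orderOf_eq_card_of_forall_mem_zpowers hu
  rw [Nat.card_units, Nat.card_eq_fintype_card, hF] at ho
  have h1 : u ^ (q - 1) = 1 := by
    apply Units.ext
    rw [Units.val_pow_eq_pow_val, Units.val_one]
    have h2 := hcon (u : K)
    rw [H950.cj_apply, sub_eq_zero] at h2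
    apply mul_right_cancel₀ u.ne_zero
    rw [← pow_succ, Nat.sub_add_cancel (by omega), ← h2, one_mul]
  have h3 := Nat.le_of_dvd (by omega) (orderOf_dvd_of_pow_eq_one h1)
  rw [ho, sq] at h3
  have h4 : q * 2 ≤ q * q := Nat.mul_le_mul_left q hq
  omega

/-- no non-trivial element of the kernel commutes with an element of order `r₄` -/
theorem fixed_trivial {W W' : Submodule K (Fin 4 → K)} (hW : TI (hermForm 4 K q) W)
    (hW' : TI (hermForm 4 K q) W') (hW2 : finrank K W = 2) (hW2' : finrank K W' = 2) (hinf : W ⊓ W' = ⊥)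
    (hsup : W ⊔ W' = ⊤) {x g : Module.End K (Fin 4 → K)} (hx : Isom (hermForm 4 K q) x) (hxr : x ^ r = 1)
    (hx1 : x ≠ 1) (hxW' : Inv x W') (hg : Isom (hermForm 4 K q) g) (hgW : ∀ u ∈ W, g u = u)
    (hgV : ∀ u, g u - u ∈ W) (hcomm : ∀ u, x (g u) = g (x u)) : ∀ u, g u = u := by
  have hB := H950.frm_herm hF 4
  set n : Module.End K (Fin 4 → K) := g - 1 with hn
  have hna : ∀ u, n u = g u - u := fun u => rfl
  have hker : W ≤ LinearMap.ker n := fun u hu => by rw [LinearMap.mem_ker, hna, hgW u hu, sub_self]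
  have hinv : Inv x (LinearMap.ker n) := by
    intro u hu
    rw [LinearMap.mem_ker, hna, sub_eq_zero] at hu ⊢
    rw [← hcomm, hu]
  have h1 := even_inv hF hr hord hx hxr hx1 hinv
  have h3 : finrank K W ≤ finrank K (LinearMap.ker n) := Submodule.finrank_mono hker
  have h4 : finrank K (LinearMap.ker n) ≤ 4 := by
    have := Submodule.finrank_le (LinearMap.ker n)
    rwa [finrank_fintype_fun_eq_card, Fintype.card_fin] at this
  by_cases h5 : finrank K (LinearMap.ker n) = 4
  · intro u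
    have h6 : LinearMap.ker n = ⊤ := Submodule.eq_top_of_finrank_eq (by
      rw [h5, finrank_fintype_fun_eq_card, Fintype.card_fin])
    have h7 : u ∈ LinearMap.ker n := by rw [h6]; trivial
    rw [LinearMap.mem_ker, hna, sub_eq_zero] at h7
    exact h7
  exfalso
  have h6 : W = LinearMap.ker n := Submodule.eq_of_le_of_finrank_eq hker (by omega)
  obtain ⟨c, hc⟩ := exists_ne_conj hF hr hord
  let T : Module.End K (Fin 4 → K) := 1 + c • n
  have hTa : ∀ u, T u = u + c • n u := fun u => rfl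
  have hTinj : ∀ u ∈ W', T u = 0 → u = 0 := by
    intro u hu h0
    rw [hTa] at h0
    have h7 : u ∈ W := by
      rw [eq_neg_of_add_eq_zero_left h0]
      exact W.neg_mem (W.smul_mem c (hgV u))
    have h8 : u ∈ W ⊓ W' := ⟨h7, hu⟩
    rwa [hinf, Submodule.mem_bot] at h8
  have hnd : Nd (hermForm 4 K q) (W'.map T) := by
    rintro _ ⟨u, hu, rfl⟩ hne
    have hu0 : u ≠ 0 := by rintro rfl; exact hne (map_zero T)
    have hnu : n u ≠ 0 := by
      intro h0
      have h7 : u ∈ W := by rw [h6, LinearMap.mem_ker]; exact h0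
      have h8 : u ∈ W ⊓ W' := ⟨h7, hu⟩
      rw [hinf, Submodule.mem_bot] at h8
      exact hu0 h8
    obtain ⟨y, -, hy⟩ := H950.nd_top hF 4 (n u) Submodule.mem_top hnu
    have hy' : y ∈ W ⊔ W' := by rw [hsup]; exact Submodule.mem_top
    obtain ⟨a, ha, b, hb, rfl⟩ := Submodule.mem_sup.1 hy'
    have hna0 : hermForm 4 K q (n u) a = 0 := hW _ (hgV u) _ ha
    rw [hB.add_right, hna0, zero_add] at hy
    refine ⟨T b, ⟨b, hb, rfl⟩, ?_⟩
    have h9 : hermForm 4 K q (n u) (n b) = 0 := hW _ (hgV u) _ (hgV b)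
    have h10 : hermForm 4 K q u (n b) = - hermForm 4 K q (n u) b := by
      have h11 := hg u b
      have h12 : g u = u + n u := by rw [hna]; abel
      have h13 : g b = b + n b := by rw [hna]; abel
      rw [h12, h13, hB.add_left, hB.add_right, hB.add_right, h9, add_zero] at h11
      rw [eq_neg_iff_add_eq_zero]
      have h14 : hermForm 4 K q u b + (hermForm 4 K q u (n b) + hermForm 4 K q (n u) b) = hermForm 4 K q u b + 0 := by
        rw [add_zero, ← add_assoc]; exact h11
      exact add_left_cancel h14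
    rw [hTa, hTa, hB.add_left, hB.add_right, hB.add_right, hB.smul_left, hB.smul_left, hB.smul_right, hB.smul_right, h9,
      h10, hW' u hu b hb, mul_zero, mul_zero, add_zero, zero_add]
    have h15 : (H950.cj hF) c * -hermForm 4 K q (n u) b + c * hermForm 4 K q (n u) b =
        (c - H950.cj hF c) * hermForm 4 K q (n u) b := by ring
    rw [h15]
    exact mul_ne_zero hc hy
  have hdim : finrank K (W'.map T) = 2 := by
    have h7 : LinearMap.ker (T.domRestrict W') = ⊥ := by
      rw [Submodule.eq_bot_iff]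
      intro u hu
      exact Subtype.ext (hTinj u u.2 hu)
    have h8 := LinearMap.finrank_range_of_inj (LinearMap.ker_eq_bot.1 h7)
    rw [LinearMap.range_domRestrict, hW2'] at h8
    exact h8
  refine not_nd hF hr hord hx hxr hx1 (W := W'.map T) ?_ hdim hnd
  rintro _ ⟨u, hu, rfl⟩
  refine ⟨x u, hxW' u hu, ?_⟩
  rw [hTa, hTa, map_add, map_smul, hna, hna, map_sub, hcomm]

end fixed

end Cfsg.Agent.H96.U4
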