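import Cfsg.Agent.H96.U4.Plane
import Cfsg.Agent.H955.Semi

/-!
# S3691, box O6m: the order of a subgroup of the stabiliser of a totally isotropic plane in `SU_4(q)`, `q = 2 ^ f` (helper96)
-/

set_option autoImplicit false

namespace Cfsg.Agent.H96.U4

open Cfsg Cfsg.Geo Module Cfsg.Agent.H951
open Cfsg.Agent.H659.Rs (Pm v2)
open scoped Matrix MatrixGroups

variable {K : Type} [Field K] [Fintype K] {q : ℕ}

theorem two_zero {f : ℕ} (hF : Fintype.card K = (2 ^ f) ^ 2) : (2 : K) = 0 := by
  obtain ⟨p, hp⟩ := CharP.exists K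
  obtain ⟨k, hpp, hk⟩ := FiniteField.card K p
  have h1 : p ∣ (2 ^ f) ^ 2 := by rw [← hF, hk]; exact dvd_pow_self _ k.ne_zero
  have h2 := (Nat.prime_dvd_prime_iff_eq hpp Nat.prime_two).1 (hpp.dvd_of_dvd_pow (hpp.dvd_of_dvd_pow h1))
  subst h2
  exact_mod_cast CharP.cast_eq_zero K 2

theorem plane {f r : ℕ} (hf : 1 ≤ f) (hF : Fintype.card K = (2 ^ f) ^ 2) (hr : Pm (4 * f) r)
    {W : Submodule K (Fin 4 → K)} (hW : TI (hermForm 4 K (2 ^ f)) W) (hW2 : finrank K W = 2)
    {X : Subgroup (GL (Fin 4) K)} (hX : X ≤ H918.SUg 4 K (2 ^ f)) (hXW : X ≤ subspaceStabilizer W)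
    (hrX : r ∣ Nat.card X) : ∃ a b : ℕ, Nat.card X = a * b ∧
      b ∣ (2 ^ f) ^ 2 * ((2 ^ f) ^ 4 - 1) * (2 ^ f - 1) ∧ (a = 1 ∨ a = (2 ^ f) ^ 4) := by
  classical
  have hfr := Fact.mk hr.prime
  have hfinGL : Finite (GL (Fin 4) K) := inferInstance
  have hord := ord_four hf hr
  have h20 : (2 : K) = 0 := two_zero hF
  have hXU : X ≤ Cfsg.GU 4 K (2 ^ f) := hX.trans inf_le_left
  obtain ⟨x, hxX, hx, hxr, hx1⟩ := H251.GeoU.exists_elt hr.prime hrX hXU
  have hxW := H251.GeoU.inv_of_mem (hXW hxX)
  obtain ⟨W', hxW', hW2', hW', hinf, hsup⟩ := exists_compl hF hr.prime hord hx hxr hx1 hxW hW2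
  obtain ⟨w, v, h, hw, hv, hspan⟩ := exists_hyp hF hW hW' hW2 hW2' hsup
  have hfix : ∀ g ∈ X, Fixes (2 ^ f) w g := by
    intro g hg i j
    exact hW _ (by
      have := H251.GeoU.inv_of_mem (hXW hg) (w i) (hw i)
      rwa [Matrix.toLin'_apply] at this) _ (hw j)
  let m₀ : X →* Matrix (Fin 2) (Fin 2) K :=
    { toFun := fun g => A (2 ^ f) w v g
      map_one' := h.A_one hF
      map_mul' := fun g g' => h.A_mul hF (hfix g' g'.2) }
  let m : X →* GL (Fin 2) K := m₀.toHomUnits
  have hm : ∀ g : X, ((m g : GL (Fin 2) K) : Matrix (Fin 2) (Fin 2) K) = A (2 ^ f) w v g := fun g => rfl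
  have hmk : ∀ g : X, g ∈ m.ker → A (2 ^ f) w v (g : GL (Fin 4) K) = 1 := by
    intro g hg
    rw [← hm, MonoidHom.mem_ker.1 hg, Units.val_one]
  have h1 := Subgroup.card_mul_index m.ker
  rw [Subgroup.index_ker] at h1
  refine ⟨Nat.card m.ker, Nat.card m.range, h1.symm, card_image_dvd hF ?_, ?_⟩
  · rintro _ ⟨g, rfl⟩
    rw [hm]
    exact h.det_pow hF (hfix g g.2) (hX g.2)
  · -- the kernel
    have hN : Nat.card (m.ker.map X.subtype) ≤ (2 ^ f) ^ 4 := by
      apply card_kernel_le hF h
      rintro _ ⟨g, hg, rfl⟩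
      exact ⟨hfix g g.2, hXU g.2, hmk g hg⟩
    rw [Subgroup.card_map_of_injective X.subtype_injective] at hN
    have hpg : IsPGroup 2 m.ker := by
      intro g
      refine ⟨1, ?_⟩
      apply Subtype.ext
      apply Subtype.ext
      have h2 := h.sq_one hF h20 (hfix g.1 g.1.2) (hXU g.1.2) (hmk g.1 g.2)
      rw [pow_one, sq]
      exact h2
    have hfin : Finite m.ker := inferInstance
    obtain ⟨i, hi⟩ := (IsPGroup.iff_card (p := 2)).1 hpg
    -- conjugation by `x`
    let y : X := ⟨x, hxX⟩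
    have hyr : y ^ r = 1 := by
      apply Subtype.ext
      apply Units.ext
      apply Matrix.toLin'.injective
      have h3 := H251.GeoCard.toLin_pow (g := x) r
      have h4 : ((y ^ r : X) : GL (Fin 4) K) = x ^ r := rfl
      rw [h4, h3, hxr]
      have h5 : (((1 : X) : GL (Fin 4) K) : Matrix (Fin 4) (Fin 4) K) = 1 := rfl
      rw [h5, Matrix.toLin'_one]
      rfl
    let σ : Equiv.Perm X := (MulAut.conj y).toEquiv
    have hσa : ∀ g, σ g = y * g * y⁻¹ := fun g => rfl
    have hσk : ∀ (k : ℕ) (g : X), (σ ^ k) g = y ^ k * g * (y ^ k)⁻¹ := by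
      intro k
      induction k with
      | zero => intro g; simp
      | succ k ih => intro g; rw [pow_succ', Equiv.Perm.mul_apply, ih, hσa, pow_succ']; group
    have hσr : σ ^ r = 1 := by
      ext g
      rw [hσk, hyr]
      simp
    have h3 := H955.card_modEq_fix σ hσr (fun g => g ∈ m.ker) (fun g hg => (inferInstance : m.ker.Normal).conj_mem g hg y)
    have h4 : Nat.card {g : X // g ∈ m.ker ∧ σ g = g} = 1 := by
      rw [Nat.card_eq_one_iff_unique]
      refine ⟨⟨fun a b => ?_⟩, ⟨1, m.ker.one_mem, by rw [hσa]; simp⟩⟩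
      have key : ∀ a : {g : X // g ∈ m.ker ∧ σ g = g}, a.1 = 1 := by
        rintro ⟨g, hg, hgs⟩
        have hgA := hmk g hg
        have hgf := hfix g g.2
        have hgu := hXU g.2
        have hiso : Isom (hermForm 4 K (2 ^ f)) (Matrix.toLin' (((g : X) : GL (Fin 4) K) : Matrix (Fin 4) (Fin 4) K)) := by
          intro a b
          rw [Matrix.toLin'_apply, Matrix.toLin'_apply]
          exact H918.mem_GU.1 hgu a b
        have hgw : ∀ u ∈ W, Matrix.toLin' (((g : X) : GL (Fin 4) K) : Matrix (Fin 4) (Fin 4) K) u = u := by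
          intro u hu
          rw [← hspan] at hu
          induction hu using Submodule.span_induction with
          | mem u hu =>
            obtain ⟨i, rfl⟩ := hu
            rw [Matrix.toLin'_apply]
            exact h.w_of hF hgf hgA i
          | zero => exact map_zero _
          | add a b _ _ ha hb => rw [map_add, ha, hb]
          | smul c a _ ha => rw [map_smul, ha]
        have hgV : ∀ u, Matrix.toLin' (((g : X) : GL (Fin 4) K) : Matrix (Fin 4) (Fin 4) K) u - u ∈ W := by
          intro u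
          obtain ⟨c, d, hcd⟩ : ∃ c d : Fin 2 → K, u = ∑ j, c j • w j + ∑ j, d j • v j := ⟨_, _, h.expand hF u⟩
          rw [hcd, map_add, map_sum, map_sum, add_sub_add_comm, ← Finset.sum_sub_distrib, ← Finset.sum_sub_distrib]
          apply W.add_mem
          · refine Submodule.sum_mem _ fun j _ => ?_
            rw [map_smul, hgw _ (hw j), sub_self]
            exact W.zero_mem
          · refine Submodule.sum_mem _ fun j _ => ?_
            rw [map_smul, ← smul_sub, Matrix.toLin'_apply, h.v_of hF hgf hgu hgA, add_sub_cancel_right]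
            exact W.smul_mem _ (Submodule.sum_mem _ fun k _ => W.smul_mem _ (hw k))
        have hcomm : ∀ u, Matrix.toLin' (x : Matrix (Fin 4) (Fin 4) K)
            (Matrix.toLin' (((g : X) : GL (Fin 4) K) : Matrix (Fin 4) (Fin 4) K) u) =
            Matrix.toLin' (((g : X) : GL (Fin 4) K) : Matrix (Fin 4) (Fin 4) K)
              (Matrix.toLin' (x : Matrix (Fin 4) (Fin 4) K) u) := by
          intro u
          rw [hσa, mul_inv_eq_iff_eq_mul] at hgs
          have e1 : x * ((g : X) : GL (Fin 4) K) = ((g : X) : GL (Fin 4) K) * x := congrArg Subtype.val hgs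
          have e2 := congrArg (fun z : GL (Fin 4) K => (z : Matrix (Fin 4) (Fin 4) K)) e1
          simp only [Units.val_mul] at e2
          rw [Matrix.toLin'_apply, Matrix.toLin'_apply, Matrix.toLin'_apply, Matrix.toLin'_apply, Matrix.mulVec_mulVec,
            Matrix.mulVec_mulVec, e2]
        have e3 := fixed_trivial hF hr.prime hord hW hW' hW2 hW2' hinf hsup hx hxr hx1 hxW' hiso hgw hgV hcomm
        apply Subtype.ext
        apply Units.ext
        apply Matrix.toLin'.injective
        apply LinearMap.ext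
        intro u
        rw [e3 u]
        have h5 : (((1 : X) : GL (Fin 4) K) : Matrix (Fin 4) (Fin 4) K) = 1 := rfl
        rw [h5, Matrix.toLin'_one]
        rfl
      exact Subtype.ext ((key a).trans (key b).symm)
    rw [h4] at h3
    have h5 : Nat.card {g : X // g ∈ m.ker} = 2 ^ i := hi
    rw [h5] at h3
    have h6 : ((2 : ℕ) : ZMod r) ^ i = 1 := by
      have := (ZMod.natCast_eq_natCast_iff _ _ _).2 h3
      rw [Nat.cast_one] at this
      rw [← this]
      push_cast
      rfl
    obtain ⟨c, hc⟩ := Pm.dvd_of hr h6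
    rw [hi] at hN ⊢
    rw [← pow_mul] at hN
    have h7 : i ≤ f * 4 := (Nat.pow_le_pow_iff_right (by norm_num)).1 hN
    have h8 : c < 2 := by
      by_contra hcon
      push Not at hcon
      have := Nat.mul_le_mul_left (4 * f) hcon
      omega
    have h9 : c = 0 ∨ c = 1 := by omega
    rcases h9 with rfl | rfl
    · left
      rw [hc, mul_zero, pow_zero]
    · right
      rw [hc, ← pow_mul]
      congr 1
      ring

end Cfsg.Agent.H96.U4
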