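import Cfsg.Agent.H96.U4.PlaneB
import Cfsg.Agent.H914.Sub
import Cfsg.Agent.H953.Basic
import Cfsg.Agent.H159.SpEnd
import Cfsg.Agent.H925.Rs.Frame
import Cfsg.Agent.LieClassical.OrthFinite
import Cfsg.Agent.H931.SpProper

/-!
# S3691, box O6m: the symplectic subfield subgroups of `SU_4(2 ^ f)` (helper96)

* `exists_sp` : a subgroup of `SU_4(q) ∩ subfieldSubgroup F₀ P`, `|F₀| = q` even, with a rational alternating `F₀`-structure,
  has the order of a subgroup of `Sp_4(F₀)`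
-/

set_option autoImplicit false
set_option linter.unusedSectionVars false

namespace Cfsg.Agent.H96.U4

open Cfsg Cfsg.Geo Module Cfsg.Agent.H951
open Cfsg.Agent.LieClassical.OrthFinite (glEquiv glEquiv_apply)
open scoped Matrix MatrixGroups

universe v

section abs

variable {F : Type} [Field F] [Fintype F] {V : Type v} [AddCommGroup V] [Module F V] [FiniteDimensional F V]

/-- linear automorphisms as matrices -/
noncomputable def cj {ι : Type} [Fintype ι] [DecidableEq ι] (φ : V ≃ₗ[F] (ι → F)) : (V ≃ₗ[F] V) ≃* GL ι F :=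
  { toFun := fun e => (glEquiv ι F).symm ((φ.symm.trans e).trans φ)
    invFun := fun g => (φ.trans (glEquiv ι F g)).trans φ.symm
    left_inv := fun e => by
      change (φ.trans (glEquiv ι F ((glEquiv ι F).symm ((φ.symm.trans e).trans φ)))).trans φ.symm = e
      rw [MulEquiv.apply_symm_apply]
      apply LinearEquiv.ext
      intro v
      simp
    right_inv := fun g => by
      apply (glEquiv ι F).injective
      change glEquiv ι F ((glEquiv ι F).symm _) = _
      rw [MulEquiv.apply_symm_apply]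
      apply LinearEquiv.ext
      intro v
      simp
    map_mul' := fun a b => by
      rw [← map_mul]
      congr 1
      apply LinearEquiv.ext
      intro v
      change φ (a (b (φ.symm v))) = φ (a (φ.symm (φ (b (φ.symm v)))))
      rw [φ.symm_apply_apply] }

theorem cj_apply {ι : Type} [Fintype ι] [DecidableEq ι] (φ : V ≃ₗ[F] (ι → F)) (e : V ≃ₗ[F] V) (v : ι → F) :
    (cj φ e : Matrix ι ι F) *ᵥ v = φ (e (φ.symm v)) := by
  rw [← glEquiv_apply]
  change glEquiv ι F ((glEquiv ι F).symm ((φ.symm.trans e).trans φ)) v = _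
  rw [MulEquiv.apply_symm_apply]
  rfl

/-- symplectic coordinates in characteristic two -/
theorem exists_coord' (h2 : (2 : F) = 0) (B : LinearMap.BilinForm F V) (hA : B.IsAlt) (hB : B.Nondegenerate) {n : ℕ}
    (hV : finrank F V = 2 * n) :
    ∃ φ : V ≃ₗ[F] (Fin n ⊕ Fin n → F), ∀ u v, sympForm n F (φ u) (φ v) = B u v := by
  classical
  have hneg : ∀ x : F, -x = x := by
    intro x
    rw [neg_eq_iff_add_eq_zero, ← two_mul, h2, zero_mul]
  obtain ⟨b, hb⟩ := H159.exists_symp_basis B hA hB hV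
  refine ⟨b.equivFun, fun u v => ?_⟩
  have h1 := LinearMap.BilinForm.apply_eq_dotProduct_toMatrix_mulVec b B u v
  rw [hb] at h1
  rw [h1, Matrix.neg_mulVec, dotProduct_neg, hneg]
  rfl

/-- isometry groups of alternating forms -/
theorem exists_le_sp (h2 : (2 : F) = 0) (B : LinearMap.BilinForm F V) (hA : B.IsAlt) (hB : B.Nondegenerate) {n : ℕ}
    (hV : finrank F V = 2 * n) {H : Subgroup (V ≃ₗ[F] V)} (hH : ∀ h ∈ H, ∀ u v, B (h u) (h v) = B u v) :
    ∃ Y : Subgroup (GL (Fin n ⊕ Fin n) F), Y ≤ spGL n F ∧ Nat.card Y = Nat.card H := by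
  obtain ⟨φ, hφ⟩ := exists_coord' h2 B hA hB hV
  refine ⟨H.map (cj φ).toMonoidHom, ?_, Subgroup.card_map_of_injective (cj φ).injective⟩
  rintro _ ⟨y, hy, rfl⟩
  change cj φ y ∈ spGL n F
  rw [H931.mem_spGL_iff]
  intro a b
  rw [cj_apply, cj_apply, hφ, hH y hy, ← hφ, φ.apply_symm_apply, φ.apply_symm_apply]

end abs

section sub

variable {K : Type} [Field K] [Fintype K] {f : ℕ}

theorem pow_four_inj (h2 : (2 : K) = 0) {a b : K} (h : a ^ 4 = b ^ 4) : a = b := by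
  have h1 : ∀ x y : K, x ^ 2 = y ^ 2 → x = y := by
    intro x y hxy
    have h3 : (x - y) * (x - y) = 0 := by linear_combination hxy - (x * y - y ^ 2) * h2
    exact sub_eq_zero.1 (mul_self_eq_zero.1 h3)
  apply h1
  apply h1
  rw [← pow_mul, ← pow_mul]
  exact h

/-- the rational entries -/
theorem entries_mem (hF : Fintype.card K = (2 ^ f) ^ 2) {F₀ : Subfield K} {P : GL (Fin 4) K}
    {g : GL (Fin 4) K} (hg : g ∈ subfieldSubgroup F₀ P) (hdet : (g : Matrix (Fin 4) (Fin 4) K).det = 1) (i j : Fin 4) :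
    ((P⁻¹ * g * P : GL (Fin 4) K) : Matrix (Fin 4) (Fin 4) K) i j ∈ F₀ := by
  obtain ⟨c, hc0, hc⟩ := H914.mem_subfieldSubgroup_iff.1 hg
  set M : Matrix (Fin 4) (Fin 4) K := ((P⁻¹ * g * P : GL (Fin 4) K) : Matrix (Fin 4) (Fin 4) K) with hM
  have hMdet : M.det = 1 := by
    rw [hM, Units.val_mul, Units.val_mul, Matrix.det_mul, Matrix.det_mul, hdet, mul_one, ← Matrix.det_mul, ← Units.val_mul,
      inv_mul_cancel, Units.val_one, Matrix.det_one]
  let N : Matrix (Fin 4) (Fin 4) F₀ := Matrix.of fun i j => ⟨c * M i j, hc i j⟩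
  have hN : N.map F₀.subtype = c • M := by
    ext i j
    rfl
  have h1 : F₀.subtype N.det = c ^ 4 := by
    rw [RingHom.map_det, RingHom.mapMatrix_apply, hN, Matrix.det_smul, hMdet, mul_one, Fintype.card_fin]
  have h2 : c ^ 4 ∈ F₀ := by rw [← h1]; exact N.det.2
  have h20 := two_zero hF
  have h3 : c ∈ F₀ := by
    rw [H953.mem_subfield_iff_pow F₀ rfl] at h2 ⊢
    apply pow_four_inj h20
    rw [← pow_mul, mul_comm, pow_mul, h2]
  have h4 : M i j = c⁻¹ * (c * M i j) := by rw [inv_mul_cancel_left₀ hc0]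
  rw [h4]
  exact F₀.mul_mem (F₀.inv_mem h3) (hc i j)

theorem nd_aux {F₀ : Subfield K} (hF : Fintype.card K = (2 ^ f) ^ 2) (P : GL (Fin 4) K) {u : Fin 4 → K}
    (h : ∀ v : Fin 4 → F₀, hermForm 4 K (2 ^ f) ((P : Matrix (Fin 4) (Fin 4) K) *ᵥ u)
      ((P : Matrix (Fin 4) (Fin 4) K) *ᵥ (fun i => (v i : K))) = 0) : u = 0 := by
  have hB := H950.frm_herm hF 4
  have h1 : ∀ v : Fin 4 → K, hermForm 4 K (2 ^ f) ((P : Matrix (Fin 4) (Fin 4) K) *ᵥ u)
      ((P : Matrix (Fin 4) (Fin 4) K) *ᵥ v) = 0 := by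
    intro v
    have h2 : v = ∑ i, v i • (fun j => (((Pi.single i 1 : Fin 4 → F₀) j : F₀) : K)) := by
      funext j
      rw [Finset.sum_apply, Finset.sum_eq_single j]
      · simp
      · intro b _ hb
        simp [Pi.single_apply, hb.symm]
      · intro hj; exact absurd (Finset.mem_univ _) hj
    rw [h2, Matrix.mulVec_sum, hB.sum_right]
    refine Finset.sum_eq_zero fun i _ => ?_
    rw [Matrix.mulVec_smul, hB.smul_right, h, mul_zero]
  have h3 : (P : Matrix (Fin 4) (Fin 4) K) *ᵥ u = 0 := by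
    by_contra hne
    obtain ⟨y, -, hy⟩ := H950.nd_top hF 4 ((P : Matrix (Fin 4) (Fin 4) K) *ᵥ u) Submodule.mem_top hne
    apply hy
    have h4 := h1 (((P⁻¹ : GL (Fin 4) K) : Matrix (Fin 4) (Fin 4) K) *ᵥ y)
    rw [Matrix.mulVec_mulVec, ← Units.val_mul, mul_inv_cancel, Units.val_one, Matrix.one_mulVec] at h4
    exact h4
  have h4 : ((P⁻¹ : GL (Fin 4) K) : Matrix (Fin 4) (Fin 4) K) *ᵥ ((P : Matrix (Fin 4) (Fin 4) K) *ᵥ u) = u := by
    rw [Matrix.mulVec_mulVec, ← Units.val_mul, inv_mul_cancel, Units.val_one, Matrix.one_mulVec]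
  rw [← h4, h3, Matrix.mulVec_zero]

/-- the embedding of `GL_4(F₀)` -/
noncomputable def psi (F₀ : Subfield K) (P : GL (Fin 4) K) : GL (Fin 4) F₀ →* GL (Fin 4) K :=
  (MulAut.conj P).toMonoidHom.comp (Matrix.GeneralLinearGroup.map (F₀.subtype : F₀ →+* K))

theorem psi_apply (F₀ : Subfield K) (P : GL (Fin 4) K) (h : GL (Fin 4) F₀) :
    psi F₀ P h = P * Matrix.GeneralLinearGroup.map (F₀.subtype : F₀ →+* K) h * P⁻¹ := rfl

theorem psi_mulVec (F₀ : Subfield K) (P : GL (Fin 4) K) (h : GL (Fin 4) F₀) (u : Fin 4 → F₀) :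
    ((psi F₀ P h : GL (Fin 4) K) : Matrix (Fin 4) (Fin 4) K) *ᵥ ((P : Matrix (Fin 4) (Fin 4) K) *ᵥ (fun i => (u i : K))) =
      (P : Matrix (Fin 4) (Fin 4) K) *ᵥ (fun i => (((h : Matrix (Fin 4) (Fin 4) F₀) *ᵥ u) i : K)) := by
  rw [psi_apply, Units.val_mul, Units.val_mul, ← Matrix.mulVec_mulVec, ← Matrix.mulVec_mulVec]
  have h1 : ((P⁻¹ : GL (Fin 4) K) : Matrix (Fin 4) (Fin 4) K) *ᵥ
      ((P : Matrix (Fin 4) (Fin 4) K) *ᵥ (fun i => (u i : K))) = fun i => (u i : K) := by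
    rw [Matrix.mulVec_mulVec, ← Units.val_mul, inv_mul_cancel, Units.val_one, Matrix.one_mulVec]
  rw [h1]
  refine congrArg _ (funext fun i => ?_)
  exact (RingHom.map_mulVec F₀.subtype (h : Matrix (Fin 4) (Fin 4) F₀) u i).symm

theorem psi_injective (F₀ : Subfield K) (P : GL (Fin 4) K) : Function.Injective (psi F₀ P) := by
  intro a b hab
  have h1 : Matrix.GeneralLinearGroup.map (F₀.subtype : F₀ →+* K) a =
      Matrix.GeneralLinearGroup.map (F₀.subtype : F₀ →+* K) b := (MulAut.conj P).injective hab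
  apply Units.ext
  ext i j
  have h2 := congrArg (fun z : GL (Fin 4) K => (z : Matrix (Fin 4) (Fin 4) K) i j) h1
  exact h2

/-- the rational form -/
noncomputable def ratForm (hF : Fintype.card K = (2 ^ f) ^ 2) {F₀ : Subfield K} {P : GL (Fin 4) K} {ζ : K}
    (hpow : ∀ c : F₀, (c : K) ^ (2 ^ f) = c)
    (hP : IsFormRationalStructure (hermForm 4 K (2 ^ f)) F₀ ζ P) : LinearMap.BilinForm F₀ (Fin 4 → F₀) :=
  LinearMap.mk₂ F₀
    (fun u v => (⟨ζ * hermForm 4 K (2 ^ f) ((P : Matrix (Fin 4) (Fin 4) K) *ᵥ (fun i => (u i : K)))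
      ((P : Matrix (Fin 4) (Fin 4) K) *ᵥ (fun i => (v i : K))), hP _ _ (fun i => (u i).2) (fun i => (v i).2)⟩ : F₀))
    (fun u u' v => by
      apply Subtype.ext
      change ζ * hermForm 4 K (2 ^ f) ((P : Matrix (Fin 4) (Fin 4) K) *ᵥ ((fun i => (u i : K)) + (fun i => (u' i : K)))) _ =
        ζ * _ + ζ * _
      rw [Matrix.mulVec_add, (H950.frm_herm hF 4).add_left, mul_add])
    (fun c u v => by
      apply Subtype.ext
      change ζ * hermForm 4 K (2 ^ f) ((P : Matrix (Fin 4) (Fin 4) K) *ᵥ ((c : K) • (fun i => (u i : K)))) _ =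
        (c : K) * (ζ * _)
      rw [Matrix.mulVec_smul, (H950.frm_herm hF 4).smul_left, mul_left_comm])
    (fun u v v' => by
      apply Subtype.ext
      change ζ * hermForm 4 K (2 ^ f) _ ((P : Matrix (Fin 4) (Fin 4) K) *ᵥ ((fun i => (v i : K)) + (fun i => (v' i : K)))) =
        ζ * _ + ζ * _
      rw [Matrix.mulVec_add, (H950.frm_herm hF 4).add_right, mul_add])
    (fun c u v => by
      apply Subtype.ext
      change ζ * hermForm 4 K (2 ^ f) _ ((P : Matrix (Fin 4) (Fin 4) K) *ᵥ ((c : K) • (fun i => (v i : K)))) =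
        (c : K) * (ζ * _)
      rw [Matrix.mulVec_smul, (H950.frm_herm hF 4).smul_right, mul_left_comm, H950.cj_apply, hpow])

theorem ratForm_apply (hF : Fintype.card K = (2 ^ f) ^ 2) {F₀ : Subfield K} {P : GL (Fin 4) K} {ζ : K}
    (hpow : ∀ c : F₀, (c : K) ^ (2 ^ f) = c)
    (hP : IsFormRationalStructure (hermForm 4 K (2 ^ f)) F₀ ζ P) (u v : Fin 4 → F₀) :
    ((ratForm hF hpow hP u v : F₀) : K) =
      ζ * hermForm 4 K (2 ^ f) ((P : Matrix (Fin 4) (Fin 4) K) *ᵥ (fun i => (u i : K)))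
        ((P : Matrix (Fin 4) (Fin 4) K) *ᵥ (fun i => (v i : K))) := rfl

theorem ratForm_alt (hF : Fintype.card K = (2 ^ f) ^ 2) {F₀ : Subfield K} {P : GL (Fin 4) K} {ζ : K}
    (hpow : ∀ c : F₀, (c : K) ^ (2 ^ f) = c)
    (hP : IsFormRationalStructure (hermForm 4 K (2 ^ f)) F₀ ζ P)
    (hiso : ∀ u : Fin 4 → K, (∀ i, u i ∈ F₀) → hermForm 4 K (2 ^ f) ((P : Matrix (Fin 4) (Fin 4) K) *ᵥ u)
      ((P : Matrix (Fin 4) (Fin 4) K) *ᵥ u) = 0) : (ratForm hF hpow hP).IsAlt := by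
  intro u
  apply Subtype.ext
  rw [ratForm_apply, hiso _ fun i => (u i).2, mul_zero]
  rfl

theorem ratForm_nondeg (hF : Fintype.card K = (2 ^ f) ^ 2) {F₀ : Subfield K} {P : GL (Fin 4) K} {ζ : K} (hζ : ζ ≠ 0)
    (hpow : ∀ c : F₀, (c : K) ^ (2 ^ f) = c)
    (hP : IsFormRationalStructure (hermForm 4 K (2 ^ f)) F₀ ζ P) (hA : (ratForm hF hpow hP).IsAlt) :
    (ratForm hF hpow hP).Nondegenerate := by
  have hnd1 : ∀ u, (∀ v, ratForm hF hpow hP u v = 0) → u = 0 := by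
    intro u hu
    have h1 := nd_aux (F₀ := F₀) hF P (u := fun i => (u i : K)) fun v => by
      have h2 := congrArg Subtype.val (hu v)
      rw [ratForm_apply] at h2
      exact (mul_eq_zero.1 h2).resolve_left hζ
    funext i
    apply Subtype.ext
    exact congrFun h1 i
  refine ⟨hnd1, fun v hv => hnd1 v fun u => ?_⟩
  have := LinearMap.IsAlt.neg hA u v
  rw [hv, neg_zero] at this
  exact this.symm

theorem exists_psi (hF : Fintype.card K = (2 ^ f) ^ 2) {F₀ : Subfield K} {P x : GL (Fin 4) K}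
    (hx : x ∈ subfieldSubgroup F₀ P) (hdet : (x : Matrix (Fin 4) (Fin 4) K).det = 1) : ∃ h, psi F₀ P h = x := by
  have h1 := entries_mem hF hx hdet
  let N : Matrix (Fin 4) (Fin 4) F₀ := Matrix.of fun i j =>
    ⟨((P⁻¹ * x * P : GL (Fin 4) K) : Matrix (Fin 4) (Fin 4) K) i j, h1 i j⟩
  have hN : N.map F₀.subtype = ((P⁻¹ * x * P : GL (Fin 4) K) : Matrix (Fin 4) (Fin 4) K) := by
    ext i j
    rfl
  have hNd : N.det ≠ 0 := by
    intro h0
    have h2 : F₀.subtype N.det = ((P⁻¹ * x * P : GL (Fin 4) K) : Matrix (Fin 4) (Fin 4) K).det := by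
      rw [RingHom.map_det, RingHom.mapMatrix_apply, hN]
    rw [h0, map_zero] at h2
    exact (Matrix.GeneralLinearGroup.det (P⁻¹ * x * P)).ne_zero h2.symm
  refine ⟨Matrix.GeneralLinearGroup.mkOfDetNeZero N hNd, ?_⟩
  have h3 : Matrix.GeneralLinearGroup.map (F₀.subtype : F₀ →+* K) (Matrix.GeneralLinearGroup.mkOfDetNeZero N hNd) =
      P⁻¹ * x * P := by
    apply Units.ext
    exact hN
  rw [psi_apply, h3]
  group

theorem exists_sp (hF : Fintype.card K = (2 ^ f) ^ 2) {F₀ : Subfield K} (hc : Fintype.card K = Nat.card F₀ ^ 2)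
    {P : GL (Fin 4) K} {ζ : K} (hζ : ζ ≠ 0)
    (hP : IsFormRationalStructure (hermForm 4 K (2 ^ f)) F₀ ζ P)
    (hiso : ∀ u : Fin 4 → K, (∀ i, u i ∈ F₀) → hermForm 4 K (2 ^ f) ((P : Matrix (Fin 4) (Fin 4) K) *ᵥ u)
      ((P : Matrix (Fin 4) (Fin 4) K) *ᵥ u) = 0)
    {X : Subgroup (GL (Fin 4) K)} (hX : X ≤ H918.SUg 4 K (2 ^ f)) (hXP : X ≤ subfieldSubgroup F₀ P) :
    ∃ (_ : Fintype F₀) (Y : Subgroup (GL (Fin 2 ⊕ Fin 2) F₀)), Fintype.card F₀ = 2 ^ f ∧ Y ≤ spGL 2 F₀ ∧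
      Nat.card Y = Nat.card X := by
  classical
  let i0 : Fintype F₀ := Fintype.ofFinite F₀
  have hcard : Nat.card F₀ = 2 ^ f := by
    rw [hF] at hc
    exact (Nat.pow_left_injective (n := 2) (by norm_num) hc).symm
  have h20 := two_zero hF
  have h20' : (2 : F₀) = 0 := Subtype.ext h20
  have hpow : ∀ c : F₀, (c : K) ^ (2 ^ f) = c := fun c => by
    have := (H953.mem_subfield_iff_pow F₀ hcard (c : K)).1 c.2
    exact this
  have hA := ratForm_alt hF hpow hP hiso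
  have hnd := ratForm_nondeg hF hζ hpow hP hA
  have hBv := ratForm_apply hF hpow hP
  generalize ratForm hF hpow hP = B at hA hnd hBv
  have hmap : (X.comap (psi F₀ P)).map (psi F₀ P) = X := by
    apply le_antisymm (Subgroup.map_comap_le _ _)
    intro x hx
    obtain ⟨h, rfl⟩ := exists_psi hF (hXP hx) (H918.mem_SUg.1 (hX hx)).2
    exact ⟨h, hx, rfl⟩
  have hXc : Nat.card (X.comap (psi F₀ P)) = Nat.card X := by
    conv_rhs => rw [← hmap]
    exact (Subgroup.card_map_of_injective (psi_injective F₀ P)).symm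
  obtain ⟨Y, hY, hYc⟩ := exists_le_sp h20' B hA hnd (n := 2) (by rw [finrank_fintype_fun_eq_card, Fintype.card_fin])
    (H := (X.comap (psi F₀ P)).map (glEquiv (Fin 4) F₀).toMonoidHom) (by
      rintro _ ⟨h, hh, rfl⟩ u v
      change B (glEquiv (Fin 4) F₀ h u) (glEquiv (Fin 4) F₀ h v) = B u v
      rw [glEquiv_apply, glEquiv_apply]
      have hu : psi F₀ P h ∈ Cfsg.GU 4 K (2 ^ f) := (H918.mem_SUg.1 (hX hh)).1
      apply Subtype.ext
      rw [hBv, hBv, ← psi_mulVec, ← psi_mulVec, H918.mem_GU.1 hu])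
  refine ⟨i0, Y, ?_, hY, ?_⟩
  · rw [← hcard, Nat.card_eq_fintype_card]
  · rw [hYc, Subgroup.card_map_of_injective (glEquiv (Fin 4) F₀).injective, hXc]

end sub

end Cfsg.Agent.H96.U4
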